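import Mathlib
import Cfsg.Prelude.Def_Characters
import Cfsg.Agent.Lib.Helper82.Constituent
import Cfsg.Agent.Lib.Helper5.Clifford
import Cfsg.Agent.Lib.Helper79.CliffordOrbit
import Cfsg.Agent.Lib.Helper19.CharMisc

set_option autoImplicit false

namespace Cfsg.Agent.Lib.Helper19

open Cfsg Cfsg.Agent.Lib.Helper20 Cfsg.Agent.Lib.Helper5
open scoped ComplexConjugate

section
variable {G : Type*} [Group G] [Fintype G]

/-- every irreducible character of a subgroup lies under an irreducible character of the group -/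
theorem exists_irr_over (H : Subgroup G) [Fintype H] {θ : H → ℂ} (hθ : IsIrrCharacter H θ) :
    ∃ χ : G → ℂ, IsIrrCharacter G χ ∧ classInner (fun x : H => χ x) θ ≠ 0 := by
  have hθc := isCharacter_of_isIrrCharacter hθ
  have hind := isCharacter_indFun H θ hθc
  have h1 : indFun H θ 1 ≠ 0 := by
    rw [Cfsg.Agent.Lib.Helper82.indFun_one]
    apply mul_ne_zero
    · exact_mod_cast H.index_ne_zero_of_finite
    · exact irr_one_ne_zero hθ
  obtain ⟨χ, hχ⟩ := Cfsg.Agent.Lib.Helper82.exists_irr_constituent hind h1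
  refine ⟨χ.1, χ.2, ?_⟩
  rw [frobenius_reciprocity H θ χ.1
    (isClassFunction_of_isCharacter (isCharacter_of_isIrrCharacter χ.2))] at hχ
  intro h
  apply hχ
  rw [← classInner_conj_symm, h, map_zero]

/-- the set of conjugates of a function on a normal subgroup is finite -/
theorem finite_conj_orbit {N : Subgroup G} (hN : N.Normal) (χ : N → ℂ) :
    {ψ : N → ℂ | ∃ g : G, ψ = cjF hN χ g}.Finite := by
  have : {ψ : N → ℂ | ∃ g : G, ψ = cjF hN χ g} = Set.range (fun g => cjF hN χ g) := by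
    ext ψ
    constructor
    · rintro ⟨g, rfl⟩; exact ⟨g, rfl⟩
    · rintro ⟨g, rfl⟩; exact ⟨g, rfl⟩
  rw [this]
  exact Set.finite_range _

/-- Clifford numerics: `θ 1 = e t χ 1`. -/
theorem clifford_degree {N : Subgroup G} [Fintype N] (hN : N.Normal) {θ : G → ℂ}
    (hθ : IsIrrCharacter G θ) {χ : N → ℂ} (hχ : IsIrrCharacter N χ)
    (hconst : classInner (fun n : N => θ n) χ ≠ 0) :
    ∃ e : ℕ, classInner (fun n : N => θ n) χ = e ∧
      θ 1 = e * (Set.ncard {ψ : N → ℂ | ∃ g : G, ψ = cjF hN χ g} : ℂ) * χ 1 := by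
  classical
  obtain ⟨e, he⟩ := isCharacter_classInner_nat
    (isCharacter_restrict (isCharacter_of_isIrrCharacter hθ) N) hχ
  refine ⟨e, he, ?_⟩
  have h := congrFun (clifford hN hθ hχ hconst) 1
  have hfin := finite_conj_orbit hN χ
  rw [Pi.smul_apply, finsum_mem_eq_finite_toFinset_sum _ hfin, Finset.sum_apply, he] at h
  have h2 : ∀ ψ ∈ hfin.toFinset, ψ 1 = χ 1 := by
    intro ψ hψ
    rw [Set.Finite.mem_toFinset] at hψ
    obtain ⟨g, rfl⟩ := hψ
    rw [cjF_apply]
    congr 1
    apply Subtype.ext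
    simp
  rw [Finset.sum_congr rfl h2, Finset.sum_const, ← Set.ncard_eq_toFinset_card _ hfin] at h
  have h3 : θ 1 = θ ((1 : N) : G) := rfl
  rw [h3, h]
  simp only [smul_eq_mul, nsmul_eq_mul]
  ring

/-- the degree of an irreducible character of a normal subgroup divides the degree of any
irreducible character lying over it -/
theorem exists_irr_over_degree_dvd {N : Subgroup G} (hN : N.Normal) {χ : N → ℂ}
    (hχ : IsIrrCharacter N χ) :
    ∃ θ : G → ℂ, IsIrrCharacter G θ ∧ ∃ a b : ℕ, θ 1 = a ∧ χ 1 = b ∧ b ∣ a := by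
  classical
  haveI : Fintype N := Fintype.ofFinite N
  obtain ⟨θ, hθ, hc⟩ := exists_irr_over N hχ
  obtain ⟨e, -, he⟩ := clifford_degree hN hθ hχ hc
  obtain ⟨b, hb⟩ := isCharacter_apply_one (isCharacter_of_isIrrCharacter hχ)
  refine ⟨θ, hθ, e * Set.ncard {ψ : N → ℂ | ∃ g : G, ψ = cjF hN χ g} * b, b, ?_, hb,
    Dvd.intro_left _ rfl⟩
  rw [he, hb]
  push_cast
  ring

end

end Cfsg.Agent.Lib.Helper19
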