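import Mathlib
import Cfsg.Prelude.Def_Characters

set_option autoImplicit false

namespace Cfsg.Agent.Lib.Helper19

open Cfsg

section
variable {G : Type*} [Group G]

/-- The function `G → ℂ` attached to a homomorphism into the units of `ℂ`. -/
def homFun (f : G →* ℂˣ) : G → ℂ := fun g => ((f g : ℂˣ) : ℂ)

@[simp] theorem homFun_apply (f : G →* ℂˣ) (g : G) : homFun f g = ((f g : ℂˣ) : ℂ) := rfl

theorem homFun_injective : Function.Injective (homFun : (G →* ℂˣ) → (G → ℂ)) := by
  intro f f' h
  ext g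
  exact congrFun h g

/-- `homFun` as a monoid homomorphism into the monoid of functions. -/
def homFunHom : (G →* ℂˣ) →* (G → ℂ) where
  toFun := homFun
  map_one' := by funext g; simp [homFun]
  map_mul' := by intro f f'; funext g; simp [homFun]

@[simp] theorem homFunHom_apply (f : G →* ℂˣ) : homFunHom f = homFun f := rfl

theorem orderOf_homFun (f : G →* ℂˣ) : orderOf (homFun f) = orderOf f :=
  orderOf_injective homFunHom homFun_injective f

theorem isCharacter_homFun (f : G →* ℂˣ) : IsCharacter G (homFun f) ∧ homFun f 1 = 1 := by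
  refine ⟨⟨1, ?_, ?_⟩, by simp [homFun]⟩
  · exact
      { toFun := fun g => ((f g : ℂˣ) : ℂ) • LinearMap.id
        map_one' := by simp; rfl
        map_mul' := by
          intro g h
          ext v i
          simp [mul_smul]
          ring }
  · funext g
    simp [Representation.character, homFun]

theorem trace_eq_det_fin_one (φ : (Fin 1 → ℂ) →ₗ[ℂ] (Fin 1 → ℂ)) :
    LinearMap.trace ℂ (Fin 1 → ℂ) φ = LinearMap.det φ := by
  rw [← LinearMap.det_toMatrix (Pi.basisFun ℂ (Fin 1)),
    LinearMap.trace_eq_matrix_trace ℂ (Pi.basisFun ℂ (Fin 1))]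
  simp [Matrix.trace_fin_one]

theorem exists_hom_of_linear (χ : G → ℂ) (h : IsCharacter G χ ∧ χ 1 = 1) :
    ∃ f : G →* ℂˣ, χ = homFun f := by
  obtain ⟨⟨n, ρ, hρ⟩, h1⟩ := h
  have hn : n = 1 := by
    rw [← hρ, Representation.char_one] at h1
    simpa using h1
  subst hn
  let d : G →* ℂ := LinearMap.det.comp ρ
  refine ⟨d.toHomUnits, ?_⟩
  funext g
  rw [← hρ]
  simp only [homFun, MonoidHom.coe_toHomUnits]
  exact trace_eq_det_fin_one (ρ g)

theorem isLinear_iff (χ : G → ℂ) : (IsCharacter G χ ∧ χ 1 = 1) ↔ ∃ f : G →* ℂˣ, χ = homFun f := by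
  constructor
  · exact exists_hom_of_linear χ
  · rintro ⟨f, rfl⟩
    exact isCharacter_homFun f

end

end Cfsg.Agent.Lib.Helper19
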