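import Mathlib
import Cfsg.Prelude.Def_Characters
import Cfsg.Agent.Lib.Helper19.CliffordDeg
import Cfsg.Agent.Lib.Helper5.Inertia
import Cfsg.Agent.Lib.Helper79.CharNorm
import Cfsg.Agent.Lib.Helper79.FullyRamified
import Cfsg.Agent.Lib.Helper82.Linear
import Cfsg.Agent.Lib.Helper82.LinCount
import Cfsg.Agent.Lib.Helper82.CharKer
import Cfsg.Agent.S0134

set_option autoImplicit false

namespace Cfsg.Agent.Lib.Helper19

open Cfsg Cfsg.Agent.Lib.Helper20 Cfsg.Agent.Lib.Helper5
open scoped ComplexConjugate commutatorElement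

section
variable {G : Type*} [Group G]

/-- orbit–stabiliser for the conjugates of a function on a normal subgroup -/
theorem ncard_conj_orbit_eq_index {N : Subgroup G} (hN : N.Normal) (θ : N → ℂ) :
    Set.ncard {ψ : N → ℂ | ∃ g : G, ψ = cjF hN θ g} = (inertia hN θ).index := by
  let act : MulAction G (N → ℂ) :=
    { smul := fun g ψ => cjF hN ψ g⁻¹
      one_smul := fun ψ => by
        show cjF hN ψ (1 : G)⁻¹ = ψ
        rw [inv_one, cjF_one]
      mul_smul := fun g h ψ => by
        show cjF hN ψ (g * h)⁻¹ = cjF hN (cjF hN ψ h⁻¹) g⁻¹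
        rw [cjF_cjF, mul_inv_rev] }
  have h1 : MulAction.orbit G θ = {ψ : N → ℂ | ∃ g : G, ψ = cjF hN θ g} := by
    ext ψ
    constructor
    · rintro ⟨g, rfl⟩
      exact ⟨g⁻¹, rfl⟩
    · rintro ⟨g, rfl⟩
      refine ⟨g⁻¹, ?_⟩
      show cjF hN θ (g⁻¹)⁻¹ = _
      rw [inv_inv]
  rw [← h1, ← MulAction.index_stabilizer]
  congr 1
  ext g
  rw [MulAction.mem_stabilizer_iff]
  exact (inertia hN θ).inv_mem_iff (x := g)

variable [Fintype G]

/-- the norm of the restriction of an irreducible character to a normal subgroup -/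
theorem clifford_norm {N : Subgroup G} [Fintype N] (hN : N.Normal) {θ : G → ℂ}
    (hθ : IsIrrCharacter G θ) {χ : N → ℂ} (hχ : IsIrrCharacter N χ) (e : ℕ)
    (he : classInner (fun n : N => θ n) χ = e) (he0 : e ≠ 0) :
    classInner (fun n : N => θ n) (fun n : N => θ n) =
      (e : ℂ) ^ 2 * ((inertia hN χ).index : ℂ) := by
  classical
  have hc := clifford hN hθ hχ (by rw [he]; exact_mod_cast he0)
  have hfin := finite_conj_orbit hN χ
  have hcl := isClassFunction_of_isCharacter (isCharacter_of_isIrrCharacter hθ)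
  calc classInner (fun n : N => θ n) (fun n : N => θ n)
      = classInner (fun n : N => θ n) (classInner (fun n : N => θ n) χ •
          ∑ᶠ ψ ∈ {ψ : N → ℂ | ∃ g : G, ψ = cjF hN χ g}, ψ) := by rw [← hc]
    _ = (e : ℂ) ^ 2 * ((inertia hN χ).index : ℂ) := by
      rw [classInner_smul_right, finsum_mem_eq_finite_toFinset_sum _ hfin, classInner_sum_right]
      have h2 : ∀ ψ ∈ hfin.toFinset, classInner (fun n : N => θ n) ψ = e := by
        intro ψ hψ
        rw [Set.Finite.mem_toFinset] at hψ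
        obtain ⟨g, rfl⟩ := hψ
        rw [clifford_inner_conj hN hcl, he]
      rw [Finset.sum_congr rfl h2, Finset.sum_const, ← Set.ncard_eq_toFinset_card _ hfin,
        ncard_conj_orbit_eq_index, he]
      simp only [nsmul_eq_mul, Complex.conj_natCast]
      ring

theorem card_mul_classInner_restrict (N : Subgroup G) [Fintype N] (θ : G → ℂ) :
    (Nat.card N : ℂ) * classInner (fun n : N => θ n) (fun n : N => θ n) =
      ((∑ n : N, ‖θ n‖ ^ 2 : ℝ) : ℂ) := by
  unfold classInner
  rw [← mul_assoc, mul_inv_cancel₀ (card_ne_zero_complex N), one_mul]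
  push_cast
  apply Finset.sum_congr rfl
  intro n _
  rw [Complex.mul_conj, Complex.normSq_eq_norm_sq]
  push_cast
  rfl

theorem sum_norm_sq_restrict_le (N : Subgroup G) [Fintype N] (θ : G → ℂ) :
    ∑ n : N, ‖θ n‖ ^ 2 ≤ ∑ g : G, ‖θ g‖ ^ 2 := by
  classical
  rw [Cfsg.Agent.Lib.Helper79.sum_subgroup_eq_filter N (fun g => ‖θ g‖ ^ 2)]
  exact Finset.sum_le_sum_of_subset_of_nonneg (Finset.filter_subset _ _)
    (fun _ _ _ => by positivity)

theorem sum_norm_sq_restrict_eq (N : Subgroup G) [Fintype N] (θ : G → ℂ)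
    (h : ∀ g, g ∉ N → θ g = 0) : ∑ n : N, ‖θ n‖ ^ 2 = ∑ g : G, ‖θ g‖ ^ 2 := by
  classical
  rw [Cfsg.Agent.Lib.Helper79.sum_subgroup_eq_filter N (fun g => ‖θ g‖ ^ 2)]
  apply Finset.sum_subset (Finset.filter_subset _ _)
  intro g _ hg
  have : g ∉ N := by simpa using hg
  rw [h g this]
  simp

theorem restrict_norm_le (N : Subgroup G) [Fintype N] {θ : G → ℂ} (hθ : IsIrrCharacter G θ)
    (r : ℕ) (hr : classInner (fun n : N => θ n) (fun n : N => θ n) = r) : r ≤ N.index := by
  have h1 := card_mul_classInner_restrict N θ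
  rw [hr] at h1
  have h2 : (Nat.card N : ℝ) * r = ∑ n : N, ‖θ n‖ ^ 2 := by exact_mod_cast h1
  have h3 := sum_norm_sq_restrict_le N θ
  rw [← h2, Cfsg.Agent.Lib.Helper79.IsIrrCharacter.sum_norm_sq hθ, ← N.card_mul_index] at h3
  have h4 : Nat.card N * r ≤ Nat.card N * N.index := by exact_mod_cast h3
  exact Nat.le_of_mul_le_mul_left h4 Nat.card_pos

theorem restrict_norm_eq (N : Subgroup G) [Fintype N] {θ : G → ℂ} (hθ : IsIrrCharacter G θ)
    (r : ℕ) (hr : classInner (fun n : N => θ n) (fun n : N => θ n) = r)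
    (h : ∀ g, g ∉ N → θ g = 0) : r = N.index := by
  have h1 := card_mul_classInner_restrict N θ
  rw [hr] at h1
  have h2 : (Nat.card N : ℝ) * r = ∑ n : N, ‖θ n‖ ^ 2 := by exact_mod_cast h1
  have h3 := sum_norm_sq_restrict_eq N θ h
  rw [← h2, Cfsg.Agent.Lib.Helper79.IsIrrCharacter.sum_norm_sq hθ, ← N.card_mul_index] at h3
  have h4 : Nat.card N * r = Nat.card N * N.index := by exact_mod_cast h3
  exact Nat.eq_of_mul_eq_mul_left Nat.card_pos h4

end

section
/-- column sums of the character table of a finite abelian group -/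
theorem sum_irr_apply_of_comm {Q : Type*} [Group Q] [Finite Q] (hQ : ∀ a b : Q, a * b = b * a)
    [Fintype (IrrCharacter Q)] [DecidableEq Q] (q : Q) :
    ∑ χ : IrrCharacter Q, (χ : Q → ℂ) q = if q = 1 then (Nat.card Q : ℂ) else 0 := by
  have h1 : ∀ χ : IrrCharacter Q, (χ : Q → ℂ) 1 = 1 := fun χ =>
    Cfsg.Agent.Lib.Helper82.isIrr_one_eq_one_of_comm hQ χ.2
  split_ifs with hq
  · subst hq
    rw [← Cfsg.Agent.S0134.result, finsum_eq_sum_of_fintype]
    apply Finset.sum_congr rfl
    intro χ _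
    rw [h1 χ]; simp
  · have h2 := Cfsg.Agent.Lib.Helper82.finsum_irr_mul_one hq
    rw [finsum_eq_sum_of_fintype] at h2
    rw [← h2]
    apply Finset.sum_congr rfl
    intro χ _
    rw [h1 χ, mul_one]

theorem quotient_comm_of_commutator_le {K : Type*} [Group K] (M : Subgroup K) [M.Normal]
    (hab : commutator K ≤ M) : ∀ a b : K ⧸ M, a * b = b * a := by
  intro a b
  induction a using QuotientGroup.induction_on with
  | H a =>
    induction b using QuotientGroup.induction_on with
    | H b =>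
      rw [← QuotientGroup.mk_mul, ← QuotientGroup.mk_mul, QuotientGroup.eq]
      apply hab
      have h1 : (a * b)⁻¹ * (b * a) = ⁅b⁻¹, a⁻¹⁆ := by
        rw [commutatorElement_def]; group
      rw [h1, commutator_def]
      exact Subgroup.commutator_mem_commutator (Subgroup.mem_top _) (Subgroup.mem_top _)

/-- the norm of the restriction to a normal subgroup with abelian quotient counts the linear
characters of the quotient fixing the character -/
theorem restrict_norm_eq_sum_linear {K : Type*} [Group K] [Fintype K] (M : Subgroup K) [M.Normal]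
    [Fintype M] (hab : commutator K ≤ M) [Fintype (IrrCharacter (K ⧸ M))] (θ : K → ℂ) :
    classInner (fun m : M => θ m) (fun m : M => θ m) =
      ∑ χ : IrrCharacter (K ⧸ M),
        classInner ((fun k : K => (χ : K ⧸ M → ℂ) (k : K ⧸ M)) * θ) θ := by
  classical
  have hQ := quotient_comm_of_commutator_le M hab
  unfold classInner
  rw [← Finset.mul_sum, Finset.sum_comm]
  have h1 : ∀ k : K, ∑ χ : IrrCharacter (K ⧸ M),
      ((fun k : K => (χ : K ⧸ M → ℂ) (k : K ⧸ M)) * θ) k * conj (θ k) =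
      if k ∈ M then (M.index : ℂ) * (θ k * conj (θ k)) else 0 := by
    intro k
    simp only [Pi.mul_apply]
    simp_rw [mul_assoc]
    rw [← Finset.sum_mul, sum_irr_apply_of_comm hQ]
    by_cases hk : k ∈ M
    · rw [if_pos hk, if_pos ((QuotientGroup.eq_one_iff k).mpr hk), Subgroup.index_eq_card]
    · rw [if_neg hk, if_neg (fun h => hk ((QuotientGroup.eq_one_iff k).mp h)), zero_mul]
  rw [Finset.sum_congr rfl (fun k _ => h1 k), ← Finset.sum_filter,
    ← Cfsg.Agent.Lib.Helper79.sum_subgroup_eq_filter M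
      (fun k => (M.index : ℂ) * (θ k * conj (θ k))), ← Finset.mul_sum, ← mul_assoc]
  congr 1
  have h2 : (Nat.card K : ℂ) = (Nat.card M : ℂ) * (M.index : ℂ) := by
    rw [← M.card_mul_index]; push_cast; rfl
  have h3 : (M.index : ℂ) ≠ 0 := by exact_mod_cast M.index_ne_zero_of_finite
  have h4 := card_ne_zero_complex M
  rw [h2]
  field_simp

end

end Cfsg.Agent.Lib.Helper19
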