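import Mathlib
import Cfsg.Prelude.Def_Characters
import Cfsg.Agent.Lib.Helper19.IndFun2
import Cfsg.Agent.Lib.Helper5.Clifford

set_option autoImplicit false

namespace Cfsg.Agent.Lib.Helper19

open Cfsg Cfsg.Agent.Lib.Helper20 Cfsg.Agent.Lib.Helper5

section
variable {G : Type*} [Group G]

/-- inducing from the whole group does nothing to a class function -/
theorem indFun_top_restrict [Fintype G] {χ : G → ℂ} (hχ : IsClassFunction G χ) :
    indFun (⊤ : Subgroup G) (fun x : (⊤ : Subgroup G) => χ x) = χ := by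
  funext g
  rw [indFun_apply]
  have h1 : ∀ x : G, extendByZero (⊤ : Subgroup G) (fun x : (⊤ : Subgroup G) => χ x)
      (x⁻¹ * g * x) = χ g := by
    intro x
    rw [extendByZero_of_mem _ _ (Subgroup.mem_top _)]
    have := hχ g x⁻¹
    simpa using this
  rw [Finset.sum_congr rfl (fun x _ => h1 x), Finset.sum_const, Finset.card_univ, nsmul_eq_mul,
    Subgroup.card_top, ← Nat.card_eq_fintype_card, ← mul_assoc,
    inv_mul_cancel₀ (by exact_mod_cast Nat.card_pos.ne'), one_mul]

theorem isIrrCharacter_top_restrict [Finite G] {χ : G → ℂ} (hχ : IsIrrCharacter G χ) :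
    IsIrrCharacter (⊤ : Subgroup G) (fun x : (⊤ : Subgroup G) => χ x) :=
  isIrrCharacter_comp_equiv (Subgroup.topEquiv : (⊤ : Subgroup G) ≃* G) hχ

theorem indFun_congr_subgroup [Fintype G] {H₁ H₂ : Subgroup G} (h : H₁ = H₂) (θ₁ : H₁ → ℂ)
    (θ₂ : H₂ → ℂ) (hθ : ∀ (x : G) (h1 : x ∈ H₁) (h2 : x ∈ H₂), θ₁ ⟨x, h1⟩ = θ₂ ⟨x, h2⟩) :
    indFun H₁ θ₁ = indFun H₂ θ₂ := by
  subst h
  congr 1
  funext x
  exact hθ x.1 x.2 x.2

/-- transport of a function on a subgroup of a subgroup `T` to the image subgroup of `G` -/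
noncomputable def liftFun (T : Subgroup G) (H' : Subgroup T) (η' : H' → ℂ) :
    (H'.map T.subtype) → ℂ :=
  fun y => η' ((H'.equivMapOfInjective T.subtype T.subtype_injective).symm y)

theorem liftFun_apply (T : Subgroup G) (H' : Subgroup T) (η' : H' → ℂ) (x : T) (hx : x ∈ H')
    (hx' : (x : G) ∈ H'.map T.subtype) : liftFun T H' η' ⟨(x : G), hx'⟩ = η' ⟨x, hx⟩ := by
  unfold liftFun
  congr 1
  rw [MulEquiv.symm_apply_eq]
  apply Subtype.ext
  rfl

theorem isIrrCharacter_liftFun [Finite G] (T : Subgroup G) (H' : Subgroup T) {η' : H' → ℂ}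
    (h : IsIrrCharacter H' η') : IsIrrCharacter (H'.map T.subtype) (liftFun T H' η') :=
  isIrrCharacter_comp_equiv (H'.equivMapOfInjective T.subtype T.subtype_injective).symm h

theorem isCharacter_liftFun (T : Subgroup G) (H' : Subgroup T) {η' : H' → ℂ}
    (h : IsCharacter H' η') : IsCharacter (H'.map T.subtype) (liftFun T H' η') :=
  isCharacter_comp_hom h
    (H'.equivMapOfInjective T.subtype T.subtype_injective).symm.toMonoidHom

theorem map_subtype_le (T : Subgroup G) (H' : Subgroup T) : H'.map T.subtype ≤ T := by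
  rintro _ ⟨x, -, rfl⟩
  exact x.2

/-- transitivity of induction, in the form used to climb back from a subgroup -/
theorem indFun_liftFun [Fintype G] (T : Subgroup G) [Fintype T] (H' : Subgroup T) (η' : H' → ℂ) :
    indFun (H'.map T.subtype) (liftFun T H' η') = indFun T (indFun H' η') := by
  rw [← indFun_trans (H'.map T.subtype) T (map_subtype_le T H') (liftFun T H' η')]
  congr 1
  apply indFun_congr_subgroup
    (Subgroup.comap_map_eq_self_of_injective T.subtype_injective H')
  intro x h1 h2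
  exact liftFun_apply T H' η' x h2 _

/-- restriction of a lifted function to a subgroup `N ≤ T` -/
theorem liftFun_restrict (T : Subgroup G) (H' : Subgroup T) (η' : H' → ℂ) (N : Subgroup G)
    (hNT : N ≤ T) (hNH' : N.subgroupOf T ≤ H') (hNH : N ≤ H'.map T.subtype) :
    (fun n : N => liftFun T H' η' ⟨(n : G), hNH n.2⟩) =
      (fun n' : N.subgroupOf T => η' ⟨n', hNH' n'.2⟩) ∘
        (Subgroup.subgroupOfEquivOfLe hNT).symm := by
  funext n
  exact liftFun_apply T H' η' ⟨(n : G), hNT n.2⟩ (hNH' (Subgroup.mem_subgroupOf.mpr n.2)) _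

theorem le_map_subtype_of_subgroupOf_le (T : Subgroup G) (H' : Subgroup T) (N : Subgroup G)
    (hNT : N ≤ T) (hNH' : N.subgroupOf T ≤ H') : N ≤ H'.map T.subtype := by
  intro n hn
  exact ⟨⟨n, hNT hn⟩, hNH' (Subgroup.mem_subgroupOf.mpr hn), rfl⟩

end

end Cfsg.Agent.Lib.Helper19
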