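import Mathlib
import Cfsg.Prelude.Def_Characters
import Cfsg.Agent.Lib.Helper19.GoingDown
import Cfsg.Agent.Lib.Helper19.LinChar
import Cfsg.Agent.Lib.Helper83.Basic

set_option autoImplicit false

namespace Cfsg.Agent.Lib.Helper19

open Cfsg Cfsg.Agent.Lib.Helper20 Cfsg.Agent.Lib.Helper5
open scoped ComplexConjugate commutatorElement

section
variable {K : Type*} [Group K] [Fintype K] (M : Subgroup K) [hM : M.Normal] [Fintype M]

/-- the inertia group of a constituent of an invariant character is invariant -/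
theorem inertia_invariant (hab : commutator K ≤ M) (α : MulAut K) (h1 : ∀ x ∈ M, α x ∈ M)
    {θ : K → ℂ} (hθ : IsIrrCharacter K θ) (h2 : ∀ x, θ (α x) = θ x)
    {φ : M → ℂ} (hφ : IsIrrCharacter M φ) (hc : classInner (fun m : M => θ m) φ ≠ 0) :
    ∀ x ∈ inertia hM φ, α x ∈ inertia hM φ := by
  classical
  let β₀ : M →* M := (α.toMonoidHom.comp M.subtype).codRestrict M (fun m => h1 m m.2)
  have hβinj : Function.Injective β₀ := by
    intro a b hab'
    have : α (a : K) = α (b : K) := congrArg Subtype.val hab'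
    exact Subtype.ext (α.injective this)
  let β : M ≃* M := MulEquiv.ofBijective β₀ (Finite.injective_iff_bijective.mp hβinj)
  have hβ : ∀ m : M, ((β m : M) : K) = α (m : K) := fun m => rfl
  have hφα : IsIrrCharacter M (φ ∘ β) := isIrrCharacter_comp_equiv β hφ
  have hres : (fun m : M => θ m) ∘ β = fun m : M => θ m := by
    funext m
    show θ ((β m : M) : K) = θ m
    rw [hβ, h2]
  have hc' : classInner (fun m : M => θ m) (φ ∘ β) ≠ 0 := by
    rw [← hres, classInner_comp_equiv]
    exact hc
  obtain ⟨k, hk⟩ : ∃ k : K, φ ∘ β = cjF hM φ k := by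
    by_contra hcon
    push Not at hcon
    exact hc' (clifford_inner_zero hM hθ hφ hc hφα hcon)
  have hMI : M ≤ inertia hM φ :=
    le_inertia hM (isClassFunction_of_isCharacter (isCharacter_of_isIrrCharacter hφ))
  intro x hx
  have hy : k * x * k⁻¹ ∈ inertia hM φ := by
    have h3 : k * x * k⁻¹ = ⁅k, x⁆ * x := by rw [commutatorElement_def]; group
    rw [h3]
    apply Subgroup.mul_mem _ (hMI (hab _)) hx
    rw [commutator_def]
    exact Subgroup.commutator_mem_commutator (Subgroup.mem_top _) (Subgroup.mem_top _)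
  rw [mem_inertia']
  intro n
  obtain ⟨m', rfl⟩ := β.surjective n
  have e1 : φ ⟨α x * ((β m' : M) : K) * (α x)⁻¹, hM.conj_mem _ (β m').2 _⟩ =
      (φ ∘ β) ⟨x * m' * x⁻¹, hM.conj_mem _ m'.2 _⟩ := by
    show _ = φ (β ⟨x * m' * x⁻¹, hM.conj_mem _ m'.2 _⟩)
    congr 1
    apply Subtype.ext
    show α x * ((β m' : M) : K) * (α x)⁻¹ = ((β ⟨x * m' * x⁻¹, hM.conj_mem _ m'.2 _⟩ : M) : K)
    rw [hβ, hβ]
    simp
  have e2 : φ (β m') = (φ ∘ β) m' := rfl
  rw [e1, e2, hk, cjF_apply, cjF_apply]
  have h4 := (mem_inertia' hM φ _).mp hy ⟨k * m' * k⁻¹, hM.conj_mem _ m'.2 _⟩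
  rw [← h4]
  congr 1
  apply Subtype.ext
  simp only
  group

/-- if `θ_M = e φ` with `e ≠ 1` then some nontrivial linear character of `K / M` fixes `θ` -/
theorem exists_linear_fixing (hab : commutator K ≤ M) {θ : K → ℂ} (hθ : IsIrrCharacter K θ)
    (r : ℕ) (hr : classInner (fun m : M => θ m) (fun m : M => θ m) = r) (hr1 : r ≠ 1) :
    ∃ f : K →* ℂˣ, M ≤ f.ker ∧ f.ker ≠ ⊤ ∧ homFun f * θ = θ := by
  classical
  haveI := finite_irrCharacter (G := K ⧸ M)
  haveI := Fintype.ofFinite (IrrCharacter (K ⧸ M))
  have hQ := quotient_comm_of_commutator_le M hab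
  have hsum := restrict_norm_eq_sum_linear M hab θ
  rw [hr] at hsum
  have hlin : ∀ χ : IrrCharacter (K ⧸ M),
      IsCharacter K (fun k : K => (χ : K ⧸ M → ℂ) (k : K ⧸ M)) ∧
      (fun k : K => (χ : K ⧸ M → ℂ) (k : K ⧸ M)) 1 = 1 := fun χ =>
    ⟨isCharacter_of_isIrrCharacter (Cfsg.Agent.Lib.Helper82.isIrr_inflate χ.2),
      Cfsg.Agent.Lib.Helper82.isIrr_one_eq_one_of_comm hQ χ.2⟩
  have hirr : ∀ χ : IrrCharacter (K ⧸ M),
      IsIrrCharacter K ((fun k : K => (χ : K ⧸ M → ℂ) (k : K ⧸ M)) * θ) := fun χ =>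
    Cfsg.Agent.Lib.Helper82.isIrr_linear_mul (hlin χ).1 (hlin χ).2 hθ
  by_contra hcon
  push Not at hcon
  apply hr1
  let triv : IrrCharacter (K ⧸ M) := ⟨fun _ => 1, Cfsg.Agent.Lib.Helper83.isIrr_trivial⟩
  have hterm : ∀ χ : IrrCharacter (K ⧸ M),
      classInner ((fun k : K => (χ : K ⧸ M → ℂ) (k : K ⧸ M)) * θ) θ =
        if χ = triv then 1 else 0 := by
    intro χ
    by_cases hχ : χ = triv
    · rw [if_pos hχ, hχ]
      have : (fun k : K => (triv : K ⧸ M → ℂ) (k : K ⧸ M)) * θ = θ := by
        funext k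
        show (1 : ℂ) * θ k = θ k
        rw [one_mul]
      rw [this, classInner_irr_self hθ]
    · rw [if_neg hχ]
      apply classInner_irr_ne (hirr χ) hθ
      intro heq
      obtain ⟨f, hf⟩ := exists_hom_of_linear _ (hlin χ)
      have hfM : M ≤ f.ker := by
        intro m hm
        rw [MonoidHom.mem_ker]
        apply Units.ext
        have h5 := congrFun hf m
        simp only [homFun_apply] at h5
        rw [← h5, (QuotientGroup.eq_one_iff m).mpr hm]
        exact (hlin χ).2
      have := hcon f hfM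
      by_cases hker : f.ker = ⊤
      · apply hχ
        apply Subtype.ext
        funext q
        induction q using QuotientGroup.induction_on with
        | H k =>
          have h5 := congrFun hf k
          simp only [homFun_apply] at h5
          have h6 : f k = 1 := by
            rw [← MonoidHom.mem_ker, hker]; exact Subgroup.mem_top k
          rw [h5, h6]
          rfl
      · exact this hker (by rw [← hf]; exact heq)
  rw [Finset.sum_congr rfl (fun χ _ => hterm χ)] at hsum
  simp only [Finset.sum_ite_eq', Finset.mem_univ, if_true] at hsum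
  exact_mod_cast hsum

/-- **Going down** (Isaacs 6.18), internal form. -/
theorem going_down_internal (hab : commutator K ≤ M) (A : Set (MulAut K))
    (h1 : ∀ α ∈ A, ∀ x ∈ M, α x ∈ M) {θ : K → ℂ} (hθ : IsIrrCharacter K θ)
    (h2 : ∀ α ∈ A, ∀ x, θ (α x) = θ x)
    (h3 : ∀ X : Subgroup K, M ≤ X → (∀ α ∈ A, ∀ x ∈ X, α x ∈ X) → X = M ∨ X = ⊤) :
    IsIrrCharacter M (fun m : M => θ m) ∨
    (∃ (φ : M → ℂ) (e : ℕ), IsIrrCharacter M φ ∧ (fun m : M => θ m) = (e : ℂ) • φ ∧
      e ^ 2 = M.index) ∨
    (∃ F : Finset (M → ℂ), (∀ φ ∈ F, IsIrrCharacter M φ) ∧ F.card = M.index ∧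
      (fun m : M => θ m) = ∑ φ ∈ F, φ) := by
  classical
  have hθc := isCharacter_of_isIrrCharacter hθ
  have hres := isCharacter_restrict hθc M
  obtain ⟨φ, hc⟩ := Cfsg.Agent.Lib.Helper82.exists_irr_constituent hres (irr_one_ne_zero hθ)
  obtain ⟨φ, hφ⟩ := φ
  simp only at hc
  obtain ⟨e, he⟩ := isCharacter_classInner_nat hres hφ
  have he0 : e ≠ 0 := by
    rintro rfl
    apply hc
    rw [he]; simp
  have hnorm := clifford_norm hM hθ hφ e he he0
  have hMI : M ≤ inertia hM φ :=
    le_inertia hM (isClassFunction_of_isCharacter (isCharacter_of_isIrrCharacter hφ))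
  rcases h3 (inertia hM φ) hMI
    (fun α hα => inertia_invariant M hab α (h1 α hα) hθ (h2 α hα) hφ hc) with hI | hI
  · -- inertia group is `M`
    right; right
    have hfin := finite_conj_orbit hM φ
    rw [hI] at hnorm
    have hle := restrict_norm_le M hθ (e ^ 2 * M.index) (by rw [hnorm]; push_cast; rfl)
    have hpos : 0 < M.index := Nat.pos_of_ne_zero M.index_ne_zero_of_finite
    have he1 : e = 1 := by
      have h4 : e ^ 2 ≤ 1 := by
        by_contra h5
        push Not at h5
        nlinarith
      have h5 : 0 < e := Nat.pos_of_ne_zero he0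
      nlinarith
    refine ⟨hfin.toFinset, ?_, ?_, ?_⟩
    · intro ψ hψ
      rw [Set.Finite.mem_toFinset] at hψ
      obtain ⟨g, rfl⟩ := hψ
      exact isIrrCharacter_cjF hM hφ g
    · rw [← Set.ncard_eq_toFinset_card _ hfin, ncard_conj_orbit_eq_index, hI]
    · have h4 := clifford hM hθ hφ hc
      rw [he, he1, finsum_mem_eq_finite_toFinset_sum _ hfin] at h4
      rw [h4]; simp
  · -- `φ` is invariant
    have hinv : ∀ g : K, cjF hM φ g = φ := by
      intro g
      rw [← mem_inertia, hI]; exact Subgroup.mem_top g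
    have hcl := clifford_invariant hM hθ hφ hc hinv
    rw [he] at hcl
    rw [hI, Subgroup.index_top] at hnorm
    by_cases he1 : e = 1
    · left
      rw [hcl, he1]
      simpa using hφ
    · right; left
      refine ⟨φ, e, hφ, hcl, ?_⟩
      have hr : classInner (fun m : M => θ m) (fun m : M => θ m) = ((e ^ 2 : ℕ) : ℂ) := by
        rw [hnorm]; push_cast; ring
      have hr1 : e ^ 2 ≠ 1 := by
        intro h
        rcases Nat.pow_eq_one.mp h with h | h
        · exact he1 h
        · omega
      obtain ⟨f, hfM, hftop, hfθ⟩ := exists_linear_fixing M hab hθ (e ^ 2) hr hr1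
      apply restrict_norm_eq M hθ (e ^ 2) hr
      -- the support
      let X : Subgroup K := Subgroup.closure ((M : Set K) ∪ {x | θ x ≠ 0})
      have hMX : M ≤ X := fun m hm => Subgroup.subset_closure (Or.inl hm)
      have hXinv : ∀ α ∈ A, ∀ x ∈ X, α x ∈ X := by
        intro α hα x hx
        induction hx using Subgroup.closure_induction with
        | mem y hy =>
          rcases hy with hy | hy
          · exact Subgroup.subset_closure (Or.inl (h1 α hα y hy))
          · apply Subgroup.subset_closure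
            right
            show θ (α y) ≠ 0
            rw [h2 α hα]; exact hy
        | one => rw [map_one]; exact Subgroup.one_mem _
        | mul a b _ _ ha hb => rw [map_mul]; exact Subgroup.mul_mem _ ha hb
        | inv a _ ha => rw [map_inv]; exact Subgroup.inv_mem _ ha
      have hXf : X ≤ f.ker := by
        rw [Subgroup.closure_le]
        rintro y (hy | hy)
        · exact hfM hy
        · have h5 := congrFun hfθ y
          simp only [Pi.mul_apply, homFun_apply] at h5
          have h6 : ((f y : ℂˣ) : ℂ) = 1 := by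
            have h7 : θ y ≠ 0 := hy
            exact mul_right_cancel₀ h7 (by rw [h5, one_mul])
          show f y = 1
          exact Units.ext h6
      rcases h3 X hMX hXinv with hX | hX
      · intro g hg
        by_contra h0
        apply hg
        rw [← hX]
        exact Subgroup.subset_closure (Or.inr h0)
      · exfalso
        apply hftop
        rw [eq_top_iff, ← hX]
        exact hXf

end

end Cfsg.Agent.Lib.Helper19
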