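import Mathlib
import Cfsg.Prelude.Def_Characters
import Cfsg.Agent.Lib.Helper19.IndFun2
import Cfsg.Agent.Lib.Helper19.IndChar
import Cfsg.Agent.Lib.Helper19.LinChar
import Cfsg.Agent.Lib.Helper19.GramRigid
import Cfsg.Agent.Lib.Helper5.Inertia
import Cfsg.Agent.Lib.Helper32.GenChar

set_option autoImplicit false

namespace Cfsg.Agent.Lib.Helper19

open Cfsg Cfsg.Agent.Lib.Helper20 Cfsg.Agent.Lib.Helper32
open scoped ComplexConjugate

section
variable {X : Type*} [Group X] [Fintype X]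

theorem sum_homFun_eq_zero (ν : X →* ℂˣ) (hν : ν ≠ 1) : ∑ y : X, ((ν y : ℂˣ) : ℂ) = 0 := by
  have h := sum_hom_units_eq_zero ((Units.coeHom ℂ).comp ν) (by
    intro h
    apply hν
    ext y
    have := congrArg (fun f : X →* ℂ => f y) h
    simpa using this)
  simpa using h

theorem conj_hom_apply (ν : X →* ℂˣ) (y : X) : conj ((ν y : ℂˣ) : ℂ) = (((ν y)⁻¹ : ℂˣ) : ℂ) := by
  have h1 : ‖((ν y : ℂˣ) : ℂ)‖ = 1 :=
    Cfsg.Agent.Lib.Helper5.norm_linear_eq_one (isCharacter_homFun ν).1 (isCharacter_homFun ν).2 y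
  rw [Units.val_inv_eq_inv_val, Complex.inv_eq_conj h1]

theorem sum_ite_mem (H : Subgroup X) [DecidablePred (· ∈ H)] (c : ℂ) :
    ∑ x : X, (if x ∈ H then c else 0) = (Nat.card H : ℂ) * c := by
  rw [← Finset.sum_filter, Finset.sum_const, nsmul_eq_mul, Nat.card_eq_fintype_card,
    Fintype.card_subtype]

end

section
variable {G : Type*} [Group G] [Fintype G]

/-- the class function `1 - μ` on `C` -/
noncomputable def oneSub {C : Subgroup G} (μ : C →* ℂˣ) : C → ℂ := fun y => 1 - ((μ y : ℂˣ) : ℂ)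

theorem oneSub_eq {C : Subgroup G} (μ : C →* ℂˣ) :
    oneSub μ = (fun _ => (1 : ℂ)) + (-1 : ℂ) • homFun μ := by
  funext y
  simp [oneSub, homFun, sub_eq_add_neg]

theorem indFun_oneSub {C : Subgroup G} (μ : C →* ℂˣ) :
    indFun C (oneSub μ) = indFun C (fun _ => (1 : ℂ)) - indFun C (homFun μ) := by
  rw [oneSub_eq, indFun_add, indFun_smul]
  funext g
  simp [sub_eq_add_neg]

theorem genChar_indFun_oneSub {C : Subgroup G} (μ : C →* ℂˣ) :
    IsGeneralizedCharacter G (indFun C (oneSub μ)) :=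
  ⟨_, _, isCharacter_indFun C _ isCharacter_one, isCharacter_indFun C _ (isCharacter_homFun μ).1,
    indFun_oneSub μ⟩

theorem indFun_oneSub_one {C : Subgroup G} (μ : C →* ℂˣ) : indFun C (oneSub μ) 1 = 0 := by
  rw [indFun_apply_one]
  simp [oneSub]

theorem inner_indFun_oneSub_one {C : Subgroup G} [Fintype C] (μ : C →* ℂˣ) (hμ : μ ≠ 1) :
    classInner (indFun C (oneSub μ)) (fun _ => (1 : ℂ)) = 1 := by
  rw [frobenius_reciprocity C _ _ (isClassFunction_of_isCharacter isCharacter_one)]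
  unfold classInner oneSub
  simp only [map_one, mul_one, Finset.sum_sub_distrib, Finset.sum_const, Finset.card_univ,
    nsmul_eq_mul]
  rw [sum_homFun_eq_zero μ hμ, sub_zero, ← Nat.card_eq_fintype_card,
    inv_mul_cancel₀ (card_ne_zero_complex C)]

theorem indFun_oneSub_eq_zero {C : Subgroup G} (μ : C →* ℂˣ) (g : G)
    (h : ∀ y : C, orderOf (y : G) = orderOf g → μ y = 1) : indFun C (oneSub μ) g = 0 := by
  rw [indFun_apply]
  have : ∀ x : G, extendByZero C (oneSub μ) (x⁻¹ * g * x) = 0 := by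
    intro x
    by_cases hx : x⁻¹ * g * x ∈ C
    · rw [extendByZero_of_mem C _ hx]
      have h1 : orderOf (x⁻¹ * g * x) = orderOf g := by
        have := MulEquiv.orderOf_eq (MulAut.conj x⁻¹) g
        simpa using this
      have := h ⟨_, hx⟩ h1
      simp [oneSub, this]
    · exact extendByZero_of_not_mem C _ hx
  rw [Finset.sum_congr rfl (fun x _ => this x)]
  simp

/-- the norm computation behind the Brauer–Suzuki theorem -/
theorem norm_indFun_oneSub (C N : Subgroup G) [Fintype C] (hCN : C ≤ N) (μ : C →* ℂˣ)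
    (H1 : ∀ x ∈ N, ∀ y ∈ C, x⁻¹ * y * x ∈ C)
    (H2 : ∀ (x : G) (y : C), μ y ≠ 1 → x⁻¹ * y * x ∈ C → x ∈ N)
    (H3 : ∀ (x : G) (hx : x ∈ N), x ∉ C → ∀ y : C, μ ⟨x⁻¹ * y * x, H1 x hx y y.2⟩ = (μ y)⁻¹)
    (H4 : μ ^ 2 ≠ 1) (H5 : Nat.card N = 2 * Nat.card C) :
    classInner (indFun C (oneSub μ)) (indFun C (oneSub μ)) = 3 := by
  classical
  have hμ1 : μ ≠ 1 := by
    intro h
    apply H4
    ext y
    simp [h]
  have hμinv : μ⁻¹ ≠ 1 := by
    intro h
    apply hμ1
    ext y
    have h1 : (μ⁻¹) y = 1 := by rw [h]; rfl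
    rw [MonoidHom.inv_apply, inv_eq_one] at h1
    simp [h1]
  have hc0 := card_ne_zero_complex C
  rw [frobenius_reciprocity C _ _ (indFun_isClassFunction C _)]
  unfold classInner
  simp only [indFun_apply, map_mul, map_inv₀, map_natCast, map_sum]
  have hF : ∀ x : G, ∑ y : C, oneSub μ y * conj (extendByZero C (oneSub μ) (x⁻¹ * (y : G) * x)) =
      (if x ∈ C then (Nat.card C : ℂ) else 0) + (if x ∈ N then (Nat.card C : ℂ) else 0) := by
    intro x
    by_cases hxN : x ∈ N
    · by_cases hxC : x ∈ C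
      · rw [if_pos hxC, if_pos hxN]
        have h1 : ∀ y : C, oneSub μ y * conj (extendByZero C (oneSub μ) (x⁻¹ * (y : G) * x)) =
            2 - ((μ y : ℂˣ) : ℂ) - (((μ⁻¹) y : ℂˣ) : ℂ) := by
          intro y
          rw [extendByZero_of_mem C _ (H1 x hxN y y.2)]
          have h2 : μ ⟨x⁻¹ * (y : G) * x, H1 x hxN y y.2⟩ = μ y := by
            have : (⟨x⁻¹ * (y : G) * x, H1 x hxN y y.2⟩ : C) = (⟨x, hxC⟩ : C)⁻¹ * y * ⟨x, hxC⟩ := rfl
            rw [this, map_mul, map_mul, map_inv, mul_comm, mul_inv_cancel_left]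
          simp only [oneSub, h2, map_sub, map_one, conj_hom_apply, MonoidHom.inv_apply]
          have h3 : ((μ y : ℂˣ) : ℂ) * (((μ y)⁻¹ : ℂˣ) : ℂ) = 1 := by
            rw [← Units.val_mul, mul_inv_cancel, Units.val_one]
          linear_combination h3
        rw [Finset.sum_congr rfl (fun y _ => h1 y), Finset.sum_sub_distrib,
          Finset.sum_sub_distrib, sum_homFun_eq_zero μ hμ1, sum_homFun_eq_zero μ⁻¹ hμinv,
          Finset.sum_const, Finset.card_univ, ← Nat.card_eq_fintype_card]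
        simp only [nsmul_eq_mul]
        ring
      · rw [if_neg hxC, if_pos hxN]
        have h1 : ∀ y : C, oneSub μ y * conj (extendByZero C (oneSub μ) (x⁻¹ * (y : G) * x)) =
            1 - 2 * ((μ y : ℂˣ) : ℂ) + (((μ ^ 2) y : ℂˣ) : ℂ) := by
          intro y
          rw [extendByZero_of_mem C _ (H1 x hxN y y.2)]
          simp only [oneSub, H3 x hxN hxC y, map_sub, map_one, conj_hom_apply, MonoidHom.pow_apply]
          have h3 : conj (((μ y)⁻¹ : ℂˣ) : ℂ) = ((μ y : ℂˣ) : ℂ) := by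
            rw [← conj_hom_apply, Complex.conj_conj]
          rw [h3]
          push_cast
          ring
        rw [Finset.sum_congr rfl (fun y _ => h1 y), Finset.sum_add_distrib,
          Finset.sum_sub_distrib, ← Finset.mul_sum, sum_homFun_eq_zero μ hμ1,
          sum_homFun_eq_zero (μ ^ 2) H4, Finset.sum_const, Finset.card_univ,
          ← Nat.card_eq_fintype_card]
        simp
    · rw [if_neg hxN, if_neg (fun h => hxN (hCN h))]
      rw [add_zero]
      apply Finset.sum_eq_zero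
      intro y _
      by_cases hy : μ y = 1
      · simp [oneSub, hy]
      · rw [extendByZero_of_not_mem C _ (fun h => hxN (H2 x y hy h))]
        simp
  have hswap : ∑ y : C, oneSub μ y * ((Nat.card C : ℂ)⁻¹ *
      ∑ x : G, conj (extendByZero C (oneSub μ) (x⁻¹ * (y : G) * x))) =
      (Nat.card C : ℂ)⁻¹ * ∑ x : G, ∑ y : C,
        oneSub μ y * conj (extendByZero C (oneSub μ) (x⁻¹ * (y : G) * x)) := by
    rw [Finset.sum_comm, Finset.mul_sum]
    apply Finset.sum_congr rfl
    intro y _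
    rw [Finset.mul_sum, Finset.mul_sum, Finset.mul_sum]
    apply Finset.sum_congr rfl
    intro x _
    ring
  rw [hswap, Finset.sum_congr rfl (fun x _ => hF x), Finset.sum_add_distrib, sum_ite_mem,
    sum_ite_mem, H5]
  push_cast
  field_simp
  ring

end

end Cfsg.Agent.Lib.Helper19
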