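import Mathlib

set_option autoImplicit false

namespace Cfsg.Agent.Lib.Helper19

open QuaternionGroup
open scoped commutatorElement

section
variable {m : ℕ}

theorem quat_inv_a (i : ZMod (2 * m)) : (a i : QuaternionGroup m)⁻¹ = a (-i) := rfl

theorem quat_inv_xa (i : ZMod (2 * m)) :
    (xa i : QuaternionGroup m)⁻¹ = xa ((m : ZMod (2 * m)) + i) := rfl

theorem quat_two_m : ((m : ZMod (2 * m)) + m) = 0 := by
  have : ((2 * m : ℕ) : ZMod (2 * m)) = 0 := ZMod.natCast_self _
  rw [← this]; push_cast; ring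

theorem quat_a_mem_zpowers (i : ZMod (2 * m)) [NeZero m] :
    (a i : QuaternionGroup m) ∈ Subgroup.zpowers (a 1 : QuaternionGroup m) := by
  refine ⟨(i.val : ℤ), ?_⟩
  show (a 1 : QuaternionGroup m) ^ (i.val : ℤ) = a i
  rw [zpow_natCast, a_one_pow, ZMod.natCast_zmod_val]

theorem quat_mem_zpowers_a_one [NeZero m] (x : QuaternionGroup m) :
    x ∈ Subgroup.zpowers (a 1 : QuaternionGroup m) ↔ ∃ i, x = a i := by
  constructor
  · rintro ⟨k, rfl⟩
    obtain ⟨k', hk'⟩ : ∃ k' : ℕ, (a 1 : QuaternionGroup m) ^ k = (a 1) ^ k' := by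
      have hfin : IsOfFinOrder (a 1 : QuaternionGroup m) := isOfFinOrder_of_finite _
      obtain ⟨k', hk'⟩ := (hfin.mem_powers_iff_mem_zpowers).mpr ⟨k, rfl⟩
      exact ⟨k', hk'.symm⟩
    exact ⟨k', by show (a 1 : QuaternionGroup m) ^ k = _; rw [hk', a_one_pow]⟩
  · rintro ⟨i, rfl⟩
    exact quat_a_mem_zpowers i

theorem quat_a_two_mul_mem (k : ZMod (2 * m)) [NeZero m] :
    (a (2 * k) : QuaternionGroup m) ∈ Subgroup.zpowers (a 2 : QuaternionGroup m) := by
  refine ⟨(k.val : ℤ), ?_⟩
  show (a 2 : QuaternionGroup m) ^ (k.val : ℤ) = a (2 * k)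
  have h2 : (a 2 : QuaternionGroup m) = (a 1) ^ 2 := by rw [a_one_pow]; norm_num
  rw [zpow_natCast, h2, ← pow_mul, a_one_pow]
  congr 1
  push_cast
  rw [ZMod.natCast_zmod_val]

theorem quat_mem_zpowers_a_two [NeZero m] (x : QuaternionGroup m) :
    x ∈ Subgroup.zpowers (a 2 : QuaternionGroup m) ↔ ∃ k, x = a (2 * k) := by
  constructor
  · rintro ⟨k, rfl⟩
    obtain ⟨k', hk'⟩ : ∃ k' : ℕ, (a 2 : QuaternionGroup m) ^ k = (a 2) ^ k' := by
      have hfin : IsOfFinOrder (a 2 : QuaternionGroup m) := isOfFinOrder_of_finite _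
      obtain ⟨k', hk'⟩ := (hfin.mem_powers_iff_mem_zpowers).mpr ⟨k, rfl⟩
      exact ⟨k', hk'.symm⟩
    refine ⟨k', ?_⟩
    show (a 2 : QuaternionGroup m) ^ k = _
    have h2 : (a 2 : QuaternionGroup m) = (a 1) ^ 2 := by rw [a_one_pow]; norm_num
    rw [hk', h2, ← pow_mul, a_one_pow]
    push_cast
    rfl
  · rintro ⟨i, rfl⟩
    exact quat_a_two_mul_mem i

/-- the commutator subgroup of a generalized quaternion group -/
theorem quat_commutator [NeZero m] :
    commutator (QuaternionGroup m) = Subgroup.zpowers (a 2 : QuaternionGroup m) := by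
  have h2m := quat_two_m (m := m)
  apply le_antisymm
  · rw [commutator_def, Subgroup.commutator_le]
    rintro (i | i) - (j | j) -
    · rw [quat_mem_zpowers_a_two]
      refine ⟨0, ?_⟩
      rw [commutatorElement_def, quat_inv_a, quat_inv_a]
      simp only [a_mul_a]
      congr 1; ring
    · rw [quat_mem_zpowers_a_two]
      refine ⟨i, ?_⟩
      rw [commutatorElement_def, quat_inv_a, quat_inv_xa]
      simp only [a_mul_xa, xa_mul_a, xa_mul_xa]
      congr 1
      linear_combination h2m
    · rw [quat_mem_zpowers_a_two]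
      refine ⟨-j, ?_⟩
      rw [commutatorElement_def, quat_inv_a, quat_inv_xa]
      simp only [a_mul_xa, xa_mul_a, xa_mul_xa, a_mul_a]
      congr 1
      linear_combination h2m
    · rw [quat_mem_zpowers_a_two]
      refine ⟨j - i, ?_⟩
      rw [commutatorElement_def, quat_inv_xa, quat_inv_xa]
      simp only [a_mul_xa, xa_mul_a, xa_mul_xa, a_mul_a]
      congr 1
      linear_combination h2m
  · rw [Subgroup.zpowers_le, commutator_def]
    have h1 : (a 2 : QuaternionGroup m) = ⁅(a 1 : QuaternionGroup m), xa 0⁆ := by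
      rw [commutatorElement_def, quat_inv_a, quat_inv_xa]
      simp only [a_mul_xa, xa_mul_a, xa_mul_xa]
      congr 1
      linear_combination -h2m
    rw [h1]
    exact Subgroup.commutator_mem_commutator (Subgroup.mem_top _) (Subgroup.mem_top _)

theorem quat_four_ne_zero (hm : 3 ≤ m) : (4 : ZMod (2 * m)) ≠ 0 := by
  intro h
  have h1 : ((4 : ℕ) : ZMod (2 * m)) = 0 := by exact_mod_cast h
  rw [ZMod.natCast_eq_zero_iff] at h1
  have := Nat.le_of_dvd (by norm_num) h1
  omega

/-- the centralizer of the commutator subgroup is the cyclic subgroup of index 2 -/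
theorem quat_centralizer_commutator [NeZero m] (hm : 3 ≤ m) :
    Subgroup.centralizer ((commutator (QuaternionGroup m) : Subgroup _) : Set (QuaternionGroup m)) =
      Subgroup.zpowers (a 1 : QuaternionGroup m) := by
  rw [quat_commutator]
  ext x
  rw [quat_mem_zpowers_a_one, Subgroup.mem_centralizer_iff]
  constructor
  · intro h
    rcases x with i | i
    · exact ⟨i, rfl⟩
    · exfalso
      have h1 := h (a 2) (Subgroup.mem_zpowers _)
      simp only [a_mul_xa, xa_mul_a] at h1
      injection h1 with h2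
      apply quat_four_ne_zero hm
      linear_combination -h2
  · rintro ⟨i, rfl⟩ y hy
    obtain ⟨k, rfl⟩ := (quat_mem_zpowers_a_two y).mp hy
    simp only [a_mul_a]
    congr 1; ring

theorem quat_card_zpowers_a_one : Nat.card (Subgroup.zpowers (a 1 : QuaternionGroup m)) = 2 * m := by
  rw [Nat.card_zpowers, orderOf_a_one]

theorem quat_index_zpowers_a_one [NeZero m] :
    (Subgroup.zpowers (a 1 : QuaternionGroup m)).index = 2 := by
  have h1 := (Subgroup.zpowers (a 1 : QuaternionGroup m)).card_mul_index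
  rw [quat_card_zpowers_a_one, Nat.card_eq_fintype_card, QuaternionGroup.card] at h1
  have hm : 0 < m := NeZero.pos m
  have h2 : 2 * m * (Subgroup.zpowers (a 1 : QuaternionGroup m)).index = 2 * m * 2 := by
    rw [h1]; ring
  exact Nat.eq_of_mul_eq_mul_left (by positivity) h2

theorem quat_card_commutator [NeZero m] : Nat.card (commutator (QuaternionGroup m)) = m := by
  rw [quat_commutator, Nat.card_zpowers]
  have h2 : (a 2 : QuaternionGroup m) = (a 1) ^ 2 := by rw [a_one_pow]; norm_num
  rw [h2, orderOf_pow, orderOf_a_one]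
  have : Nat.gcd (2 * m) 2 = 2 := Nat.gcd_eq_right (Dvd.intro _ rfl)
  rw [this]
  omega

/-- the unique involution -/
theorem quat_orderOf_two [NeZero m] (x : QuaternionGroup m) (hx : orderOf x = 2) : x = a m := by
  rcases x with i | i
  · have h1 : (a i : QuaternionGroup m) ^ 2 = 1 := by rw [← hx]; exact pow_orderOf_eq_one _
    have h0 : (a i : QuaternionGroup m) ≠ 1 := by
      intro h; rw [h, orderOf_one] at hx; omega
    rw [sq, a_mul_a, one_def] at h1
    injection h1 with h2
    congr 1
    -- `2 i = 0` and `i ≠ 0`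
    have hi0 : i ≠ 0 := by
      rintro rfl; exact h0 rfl
    have h3 : ((i.val + i.val : ℕ) : ZMod (2 * m)) = 0 := by
      push_cast; rw [ZMod.natCast_zmod_val]; exact h2
    rw [ZMod.natCast_eq_zero_iff] at h3
    have h4 : i.val < 2 * m := ZMod.val_lt i
    have h5 : i.val ≠ 0 := fun h => hi0 ((ZMod.val_eq_zero i).mp h)
    obtain ⟨c, hc⟩ := h3
    have hc1 : c = 1 := by
      have hm : 0 < m := NeZero.pos m
      rcases c with _ | _ | c
      · omega
      · rfl
      · exfalso
        have : 2 * m * (c + 1 + 1) ≥ 2 * m * 2 := Nat.mul_le_mul_left _ (by omega)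
        omega
    rw [hc1] at hc
    have h6 : i.val = m := by omega
    rw [← ZMod.natCast_zmod_val i, h6]
  · rw [orderOf_xa] at hx
    omega

/-- a normal subgroup containing an element outside the cyclic maximal subgroup contains the
commutator subgroup -/
theorem quat_commutator_le_of_normal [NeZero m] (Q : Subgroup (QuaternionGroup m)) [hQ : Q.Normal]
    (i : ZMod (2 * m)) (hi : xa i ∈ Q) : commutator (QuaternionGroup m) ≤ Q := by
  rw [quat_commutator, Subgroup.zpowers_le]
  have h1 : (a 1 : QuaternionGroup m) * xa i * (a 1)⁻¹ ∈ Q := hQ.conj_mem _ hi _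
  have h2 := Q.mul_mem h1 (Q.inv_mem hi)
  have h2m := quat_two_m (m := m)
  have h3 : (a 1 : QuaternionGroup m) * xa i * (a 1)⁻¹ * (xa i)⁻¹ = a 2 := by
    rw [quat_inv_a, quat_inv_xa]
    simp only [a_mul_xa, xa_mul_a, xa_mul_xa]
    congr 1
    linear_combination h2m
  rwa [h3] at h2

end

end Cfsg.Agent.Lib.Helper19
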