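import Mathlib
import Cfsg.Agent.Lib.Helper19.Quat
import Cfsg.Agent.Lib.Helper11.TwoComplement
import Cfsg.Agent.Lib.Helper77.Frobenius
import Cfsg.Agent.Lib.Helper76.SylowNumber

set_option autoImplicit false

namespace Cfsg.Agent.Lib.Helper19

open QuaternionGroup

section Transport
variable {X Y : Type*} [Group X] [Group Y]

theorem commutator_eq_comap (e : X ≃* Y) :
    commutator X = (commutator Y).comap e.toMonoidHom := by
  have h1 : (commutator X).map e.toMonoidHom = commutator Y := by
    rw [commutator_def, commutator_def, Subgroup.map_commutator,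
      Subgroup.map_top_of_surjective _ e.surjective]
  rw [← h1, Subgroup.comap_map_eq_self_of_injective e.injective]

theorem centralizer_comap_equiv (e : X ≃* Y) (H : Subgroup Y) :
    Subgroup.centralizer ((H.comap e.toMonoidHom : Subgroup X) : Set X) =
      (Subgroup.centralizer (H : Set Y)).comap e.toMonoidHom := by
  ext x
  rw [Subgroup.mem_comap, Subgroup.mem_centralizer_iff, Subgroup.mem_centralizer_iff]
  constructor
  · intro h y hy
    obtain ⟨z, rfl⟩ := e.surjective y
    have := h z hy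
    have h2 := congrArg e this
    simpa using h2
  · intro h z hz
    apply e.injective
    have := h (e z) hz
    simpa using this

theorem isCyclic_comap_equiv (e : X ≃* Y) (H : Subgroup Y) [IsCyclic H] :
    IsCyclic (H.comap e.toMonoidHom) := by
  apply isCyclic_of_injective (e.toMonoidHom.subgroupComap H)
  intro a b hab
  apply Subtype.ext
  apply e.injective
  exact congrArg Subtype.val hab

theorem card_comap_equiv (e : X ≃* Y) (H : Subgroup Y) :
    Nat.card (H.comap e.toMonoidHom) = Nat.card H := by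
  apply Nat.card_congr
  exact
    { toFun := fun x => ⟨e x, x.2⟩
      invFun := fun y => ⟨e.symm y, by
        show e (e.symm y) ∈ H
        rw [e.apply_symm_apply]; exact y.2⟩
      left_inv := fun x => Subtype.ext (e.symm_apply_apply x)
      right_inv := fun y => Subtype.ext (e.apply_symm_apply y) }

variable {m : ℕ} [NeZero m]

theorem quatX_isCyclic_commutator (e : X ≃* QuaternionGroup m) : IsCyclic (commutator X) := by
  rw [commutator_eq_comap e, quat_commutator]
  exact isCyclic_comap_equiv e _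

theorem quatX_card_commutator (e : X ≃* QuaternionGroup m) : Nat.card (commutator X) = m := by
  rw [commutator_eq_comap e, card_comap_equiv, quat_card_commutator]

theorem quatX_centralizer (e : X ≃* QuaternionGroup m) (hm : 3 ≤ m) :
    Subgroup.centralizer ((commutator X : Subgroup X) : Set X) =
      (Subgroup.zpowers (a 1 : QuaternionGroup m)).comap e.toMonoidHom := by
  rw [commutator_eq_comap e, centralizer_comap_equiv, quat_centralizer_commutator hm]

theorem quatX_isCyclic_centralizer (e : X ≃* QuaternionGroup m) (hm : 3 ≤ m) :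
    IsCyclic (Subgroup.centralizer ((commutator X : Subgroup X) : Set X)) := by
  rw [quatX_centralizer e hm]
  exact isCyclic_comap_equiv e _

theorem quatX_index_centralizer (e : X ≃* QuaternionGroup m) (hm : 3 ≤ m) :
    (Subgroup.centralizer ((commutator X : Subgroup X) : Set X)).index = 2 := by
  rw [quatX_centralizer e hm, Subgroup.index_comap_of_surjective _ e.surjective,
    quat_index_zpowers_a_one]

theorem quatX_involution_unique (e : X ≃* QuaternionGroup m) (x y : X) (hx : orderOf x = 2)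
    (hy : orderOf y = 2) : x = y := by
  apply e.injective
  rw [quat_orderOf_two (e x) (by rw [MulEquiv.orderOf_eq]; exact hx),
    quat_orderOf_two (e y) (by rw [MulEquiv.orderOf_eq]; exact hy)]

end Transport

section LemmaA

/-- odd order elements centralize a cyclic normal `2`-subgroup -/
theorem odd_centralizes_cyclic_two {Γ : Type*} [Group Γ] [Finite Γ] (D : Subgroup Γ) [D.Normal]
    [IsCyclic D] (k : ℕ) (hD : Nat.card D = 2 ^ k) (g : Γ) (hg : (orderOf g).Coprime 2) :
    g ∈ Subgroup.centralizer (D : Set Γ) := by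
  have h1 : Nat.card (MulAut D) ∣ 2 ^ k := by
    rw [IsCyclic.card_mulAut, hD]
    rcases k with _ | k
    · simp
    · rw [Nat.totient_prime_pow Nat.prime_two (Nat.succ_pos k)]
      have : k + 1 - 1 = k := by omega
      rw [this]
      exact ⟨2, by ring⟩
  have h2 : orderOf (MulAut.conjNormal g : MulAut D) ∣ 2 ^ k := (orderOf_dvd_natCard _).trans h1
  have h3 : orderOf (MulAut.conjNormal g : MulAut D) ∣ orderOf g :=
    orderOf_map_dvd (MulAut.conjNormal : Γ →* MulAut D) g
  have h4 : orderOf (MulAut.conjNormal g : MulAut D) = 1 :=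
    Nat.eq_one_of_dvd_coprimes (Nat.Coprime.pow_right k hg) h3 h2
  rw [orderOf_eq_one_iff] at h4
  rw [Subgroup.mem_centralizer_iff]
  intro d hd
  have h5 := congrArg (fun φ : MulAut D => ((φ ⟨d, hd⟩ : D) : Γ)) h4
  simp only [MulAut.conjNormal_apply, MulAut.one_apply] at h5
  calc d * g = (g * d * g⁻¹) * g := by rw [h5]
    _ = g * d := by group

theorem orderOf_conj_eq {Γ : Type*} [Group Γ] (g x : Γ) : orderOf (g * x * g⁻¹) = orderOf x := by
  have := MulEquiv.orderOf_eq (MulAut.conj g) x
  simpa using this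

theorem lemmaA {Γ : Type*} [Group Γ] [Finite Γ] (S : Sylow 2 Γ) (C : Subgroup Γ) [hC : C.Normal]
    (h1 : ∀ g : Γ, (orderOf g).Coprime 2 → g ∈ C)
    (h2 : IsCyclic ((S : Subgroup Γ) ⊓ C : Subgroup Γ)) (h3 : C.relIndex (S : Subgroup Γ) = 2) :
    ∃ K : Subgroup Γ, K ≤ C ∧ K.Normal ∧ Odd (Nat.card K) ∧ K ⊔ (S : Subgroup Γ) = ⊤ ∧
      K ⊔ ((S : Subgroup Γ) ⊓ C) = C ∧ C.index = 2 := by
  classical
  haveI : Fact (Nat.Prime 2) := ⟨Nat.prime_two⟩
  have hCS : C ⊔ (S : Subgroup Γ) = ⊤ := Cfsg.Agent.Lib.Helper77.sup_sylow_eq_top 2 C h1 S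
  have hpg : IsPGroup 2 (((S : Subgroup Γ) ⊓ C).subgroupOf C) :=
    (S.isPGroup'.to_le inf_le_left).comap_subtype
  let T : Sylow 2 C := hpg.toSylow (Cfsg.Agent.Lib.Helper76.not_dvd_relIndex_inf_normal 2 S C)
  have hTcoe : (T : Subgroup C) = ((S : Subgroup Γ) ⊓ C).subgroupOf C := rfl
  have hTcyc : IsCyclic (T : Subgroup C) := by
    rw [hTcoe]
    exact isCyclic_of_injective (Subgroup.subgroupOfEquivOfLe
      (inf_le_right : (S : Subgroup Γ) ⊓ C ≤ C)).toMonoidHom
      (Subgroup.subgroupOfEquivOfLe (inf_le_right : (S : Subgroup Γ) ⊓ C ≤ C)).injective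
  obtain ⟨K₀, hK₀n, hK₀odd, k, hk⟩ := Cfsg.Agent.Lib.Helper11.NC_of_cyclic_sylow T hTcyc
  have hmem : ∀ y : C, Odd (orderOf y) → y ∈ K₀ := fun y hy =>
    Cfsg.Agent.Lib.Helper11.mem_of_odd_orderOf K₀ hk y hy
  have hKT : K₀ ⊔ (T : Subgroup C) = ⊤ :=
    Cfsg.Agent.Lib.Helper77.sup_sylow_eq_top 2 K₀
      (fun g hg => hmem g (Nat.coprime_two_right.mp hg)) T
  refine ⟨K₀.map C.subtype, ?_, ⟨?_⟩, ?_, ?_, ?_, ?_⟩
  · rintro _ ⟨x, -, rfl⟩
    exact x.2
  · rintro _ ⟨x, hx, rfl⟩ g
    refine ⟨⟨g * x * g⁻¹, hC.conj_mem _ x.2 g⟩, ?_, rfl⟩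
    apply hmem
    have h4 : orderOf (⟨g * x * g⁻¹, hC.conj_mem _ x.2 g⟩ : C) = orderOf x := by
      rw [← Subgroup.orderOf_coe, ← Subgroup.orderOf_coe]
      show orderOf (g * (x : Γ) * g⁻¹) = _
      exact orderOf_conj_eq _ _
    rw [h4]
    have h5 : orderOf (⟨x, hx⟩ : K₀) ∣ Nat.card K₀ := orderOf_dvd_natCard _
    rw [Subgroup.orderOf_mk] at h5
    exact Odd.of_dvd_nat hK₀odd h5
  · rw [Subgroup.card_map_of_injective C.subtype_injective]
    exact hK₀odd
  · have h4 : K₀.map C.subtype ⊔ ((S : Subgroup Γ) ⊓ C) = C := by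
      have h5 := congrArg (Subgroup.map C.subtype) hKT
      rw [Subgroup.map_sup, hTcoe, Subgroup.subgroupOf_map_subtype, ← MonoidHom.range_eq_map,
        Subgroup.range_subtype, inf_assoc, inf_idem] at h5
      exact h5
    rw [eq_top_iff, ← hCS]
    apply sup_le
    · calc C = K₀.map C.subtype ⊔ ((S : Subgroup Γ) ⊓ C) := h4.symm
        _ ≤ _ := sup_le le_sup_left (inf_le_left.trans le_sup_right)
    · exact le_sup_right
  · have h5 := congrArg (Subgroup.map C.subtype) hKT
    rw [Subgroup.map_sup, hTcoe, Subgroup.subgroupOf_map_subtype, ← MonoidHom.range_eq_map,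
      Subgroup.range_subtype, inf_assoc, inf_idem] at h5
    exact h5
  · rw [← Subgroup.relIndex_top_right, ← hCS, Subgroup.relIndex_sup_left, h3]

end LemmaA

end Cfsg.Agent.Lib.Helper19
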