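import Mathlib
import Cfsg.Agent.Lib.Helper19.QuatSylow

set_option autoImplicit false

namespace Cfsg.Agent.Lib.Helper19

open QuaternionGroup

section
variable {G : Type*} [Group G]

theorem mem_normalizer_of_forall_conj_mem [Finite G] (H : Subgroup G) (g : G)
    (h : ∀ x ∈ H, g * x * g⁻¹ ∈ H) : g ∈ Subgroup.normalizer (H : Set G) := by
  rw [Subgroup.mem_normalizer_iff]
  intro x
  refine ⟨h x, fun hx => ?_⟩
  -- conjugation by `g` is an injective self-map of the finite set `H`
  let f : H → H := fun y => ⟨g * y * g⁻¹, h y y.2⟩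
  have hf : Function.Injective f := by
    intro a b hab
    have : g * (a : G) * g⁻¹ = g * b * g⁻¹ := congrArg Subtype.val hab
    apply Subtype.ext
    simpa using this
  obtain ⟨y, hy⟩ := (Finite.injective_iff_surjective.mp hf) ⟨g * x * g⁻¹, hx⟩
  have h2 : g * (y : G) * g⁻¹ = g * x * g⁻¹ := congrArg Subtype.val hy
  have h3 : (y : G) = x := by simpa using h2
  rw [← h3]; exact y.2

variable (S : Subgroup G)

theorem le_normalizer_commutator_self : S ≤ Subgroup.normalizer ((⁅S, S⁆ : Subgroup G) : Set G) := by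
  intro s hs
  rw [Subgroup.mem_normalizer_iff]
  have key : ∀ t ∈ S, ∀ x ∈ ⁅S, S⁆, t * x * t⁻¹ ∈ ⁅S, S⁆ := by
    intro t ht x hx
    rw [← Subgroup.map_subtype_commutator] at hx ⊢
    obtain ⟨y, hy, rfl⟩ := hx
    exact ⟨⟨t, ht⟩ * y * ⟨t, ht⟩⁻¹,
      (inferInstance : (commutator S).Normal).conj_mem y hy ⟨t, ht⟩, rfl⟩
  intro x
  refine ⟨key s hs x, fun hx => ?_⟩
  have := key s⁻¹ (S.inv_mem hs) _ hx
  simpa [mul_assoc] using this

theorem isCyclic_commutator_of_quat {m : ℕ} [NeZero m] (e : S ≃* QuaternionGroup m) :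
    IsCyclic (⁅S, S⁆ : Subgroup G) := by
  rw [← Subgroup.map_subtype_commutator]
  haveI := quatX_isCyclic_commutator e
  exact isCyclic_of_surjective ((S.subtype).subgroupMap (commutator S))
    ((S.subtype).subgroupMap_surjective (commutator S))

theorem card_commutator_of_quat {m : ℕ} [NeZero m] (e : S ≃* QuaternionGroup m) :
    Nat.card (⁅S, S⁆ : Subgroup G) = m := by
  rw [← Subgroup.map_subtype_commutator, Subgroup.card_map_of_injective S.subtype_injective,
    quatX_card_commutator e]

/-- elements of `S` centralizing `S'`, seen inside `S` -/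
theorem mem_centralizer_commutator_iff (x : S) :
    x ∈ Subgroup.centralizer ((commutator S : Subgroup S) : Set S) ↔
      (x : G) ∈ Subgroup.centralizer ((⁅S, S⁆ : Subgroup G) : Set G) := by
  rw [Subgroup.mem_centralizer_iff, Subgroup.mem_centralizer_iff]
  constructor
  · intro h d hd
    have hd' : d ∈ (⁅S, S⁆ : Subgroup G) := hd
    rw [← Subgroup.map_subtype_commutator] at hd'
    obtain ⟨y, hy, rfl⟩ := hd'
    exact congrArg Subtype.val (h y hy)
  · intro h y hy
    apply Subtype.ext
    apply h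
    show (y : G) ∈ (⁅S, S⁆ : Subgroup G)
    rw [← Subgroup.map_subtype_commutator]
    exact ⟨y, hy, rfl⟩

theorem isCyclic_inf_centralizer_of_quat {m : ℕ} [NeZero m] (e : S ≃* QuaternionGroup m)
    (hm : 3 ≤ m) :
    IsCyclic (S ⊓ Subgroup.centralizer ((⁅S, S⁆ : Subgroup G) : Set G) : Subgroup G) := by
  haveI := quatX_isCyclic_centralizer e hm
  let f : (S ⊓ Subgroup.centralizer ((⁅S, S⁆ : Subgroup G) : Set G) : Subgroup G) →*
      Subgroup.centralizer ((commutator S : Subgroup S) : Set S) :=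
    (Subgroup.inclusion inf_le_left).codRestrict _ (fun x =>
      (mem_centralizer_commutator_iff S _).mpr x.2.2)
  apply isCyclic_of_injective f
  intro a b hab
  apply Subtype.ext
  exact congrArg (fun z : Subgroup.centralizer ((commutator S : Subgroup S) : Set S) =>
    ((z : S) : G)) hab

theorem relIndex_centralizer_of_quat {m : ℕ} [NeZero m] (e : S ≃* QuaternionGroup m)
    (hm : 3 ≤ m) :
    (Subgroup.centralizer ((⁅S, S⁆ : Subgroup G) : Set G)).relIndex S = 2 := by
  rw [← quatX_index_centralizer e hm]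
  unfold Subgroup.relIndex
  congr 1
  ext x
  rw [Subgroup.mem_subgroupOf, mem_centralizer_commutator_iff]

end

section
variable {G : Type*} [Group G] [Finite G]

/-- **Structure of `N(D)` and `C(D)`**, `D = S'`, for a generalized quaternion Sylow `2`-subgroup
`S` of order at least `16`. -/
theorem bs_structure (S : Sylow 2 G) (n : ℕ) (e : (S : Subgroup G) ≃* QuaternionGroup (2 ^ (n + 2)))
    (D : Subgroup G) (hD : D = ⁅(S : Subgroup G), (S : Subgroup G)⁆) :
    ∃ K : Subgroup G, Odd (Nat.card K) ∧ K ≤ Subgroup.centralizer (D : Set G) ∧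
      Subgroup.normalizer (D : Set G) ≤ Subgroup.normalizer (K : Set G) ∧
      K ⊔ (S : Subgroup G) = Subgroup.normalizer (D : Set G) ∧
      K ⊔ ((S : Subgroup G) ⊓ Subgroup.centralizer (D : Set G)) =
        Subgroup.centralizer (D : Set G) ∧
      ((Subgroup.centralizer (D : Set G)).subgroupOf (Subgroup.normalizer (D : Set G))).index = 2 := by
  classical
  haveI : Fact (Nat.Prime 2) := ⟨Nat.prime_two⟩
  subst hD
  have hm : 3 ≤ 2 ^ (n + 2) := by
    have : 2 ^ (n + 2) = 4 * 2 ^ n := by ring
    have h1 : 1 ≤ 2 ^ n := Nat.one_le_two_pow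
    omega
  set D : Subgroup G := ⁅(S : Subgroup G), (S : Subgroup G)⁆ with hDdef
  set N := Subgroup.normalizer (D : Set G) with hN
  set C := Subgroup.centralizer (D : Set G) with hC
  have hSN : (S : Subgroup G) ≤ N := le_normalizer_commutator_self _
  have hCN : C ≤ N := Subgroup.centralizer_le_normalizer _
  have hDN : D ≤ N := Subgroup.le_normalizer
  let S' : Sylow 2 N := S.subtype hSN
  have hS' : (S' : Subgroup N) = (S : Subgroup G).subgroupOf N := rfl
  haveI : IsCyclic (D.subgroupOf N) := by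
    haveI := isCyclic_commutator_of_quat (S : Subgroup G) e
    exact isCyclic_of_injective (Subgroup.subgroupOfEquivOfLe hDN).toMonoidHom
      (Subgroup.subgroupOfEquivOfLe hDN).injective
  have hcardD : Nat.card (D.subgroupOf N) = 2 ^ (n + 2) := by
    rw [Nat.card_congr (Subgroup.subgroupOfEquivOfLe hDN).toEquiv]
    exact card_commutator_of_quat (S : Subgroup G) e
  have h1 : ∀ g : N, (orderOf g).Coprime 2 → g ∈ C.subgroupOf N := by
    intro g hg
    have h := odd_centralizes_cyclic_two (D.subgroupOf N) (n + 2) hcardD g hg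
    rw [Subgroup.mem_subgroupOf, Subgroup.mem_centralizer_iff]
    intro d hd
    rw [Subgroup.mem_centralizer_iff] at h
    exact congrArg Subtype.val (h ⟨d, hDN hd⟩ (Subgroup.mem_subgroupOf.mpr hd))
  have hinf : (S' : Subgroup N) ⊓ C.subgroupOf N = ((S : Subgroup G) ⊓ C).subgroupOf N := by
    rw [hS']; rfl
  have h2 : IsCyclic ((S' : Subgroup N) ⊓ C.subgroupOf N : Subgroup N) := by
    rw [hinf]
    haveI := isCyclic_inf_centralizer_of_quat (S : Subgroup G) e hm
    have hle : (S : Subgroup G) ⊓ C ≤ N := inf_le_left.trans hSN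
    exact isCyclic_of_injective (Subgroup.subgroupOfEquivOfLe hle).toMonoidHom
      (Subgroup.subgroupOfEquivOfLe hle).injective
  have h3 : (C.subgroupOf N).relIndex (S' : Subgroup N) = 2 := by
    rw [hS', Subgroup.relIndex_subgroupOf hSN]
    exact relIndex_centralizer_of_quat (S : Subgroup G) e hm
  obtain ⟨K', hK'C, hK'n, hK'odd, hK'S, hK'A, hidx⟩ := lemmaA S' (C.subgroupOf N) h1 h2 h3
  refine ⟨K'.map N.subtype, ?_, ?_, ?_, ?_, ?_, hidx⟩
  · rw [Subgroup.card_map_of_injective N.subtype_injective]; exact hK'odd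
  · rintro _ ⟨x, hx, rfl⟩
    exact Subgroup.mem_subgroupOf.mp (hK'C hx)
  · intro g hg
    apply mem_normalizer_of_forall_conj_mem
    rintro _ ⟨x, hx, rfl⟩
    exact ⟨⟨g, hg⟩ * x * ⟨g, hg⟩⁻¹, hK'n.conj_mem x hx _, rfl⟩
  · have h5 := congrArg (Subgroup.map N.subtype) hK'S
    rw [Subgroup.map_sup, hS', Subgroup.subgroupOf_map_subtype, ← MonoidHom.range_eq_map,
      Subgroup.range_subtype, inf_eq_left.mpr hSN] at h5
    exact h5
  · have h5 := congrArg (Subgroup.map N.subtype) hK'A
    rw [Subgroup.map_sup, hinf, Subgroup.subgroupOf_map_subtype, Subgroup.subgroupOf_map_subtype,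
      inf_eq_left.mpr hCN, inf_eq_left.mpr (inf_le_left.trans hSN)] at h5
    exact h5

end

end Cfsg.Agent.Lib.Helper19
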