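import Mathlib
import Cfsg.Agent.Lib.Helper19.BSSetup
import Cfsg.Agent.Lib.Helper43.RealElt

set_option autoImplicit false

namespace Cfsg.Agent.Lib.Helper19

open QuaternionGroup

theorem mem_zpowers_of_orderOf_dvd {A : Type*} [Group A] [Finite A] [IsCyclic A] (x z : A)
    (h : orderOf x ∣ orderOf z) : x ∈ Subgroup.zpowers z := by
  classical
  haveI : Fintype A := Fintype.ofFinite A
  have h1 := IsCyclic.card_pow_eq_one_le (α := A) (n := orderOf z) (orderOf_pos z)
  have h2 : (Finset.univ.filter (fun u : A => u ∈ Subgroup.zpowers z)) ⊆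
      Finset.univ.filter (fun u : A => u ^ orderOf z = 1) := by
    intro u hu
    simp only [Finset.mem_filter, Finset.mem_univ, true_and] at hu ⊢
    obtain ⟨k, rfl⟩ := hu
    show (z ^ k) ^ orderOf z = 1
    rw [← zpow_natCast, ← zpow_mul, mul_comm, zpow_mul, zpow_natCast, pow_orderOf_eq_one, one_zpow]
  have h3 : (Finset.univ.filter (fun u : A => u ∈ Subgroup.zpowers z)).card = orderOf z := by
    rw [← Nat.card_zpowers, Nat.card_eq_fintype_card, Fintype.card_subtype]
  have h4 := Finset.eq_of_subset_of_card_le h2 (by rw [h3]; exact h1)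
  have h5 : x ∈ Finset.univ.filter (fun u : A => u ^ orderOf z = 1) := by
    simp only [Finset.mem_filter, Finset.mem_univ, true_and]
    exact orderOf_dvd_iff_pow_eq_one.mp h
  rw [← h4] at h5
  simpa using h5

theorem mem_zpowers_of_orderOf_dvd' {G : Type*} [Group G] [Finite G] (B : Subgroup G) [IsCyclic B]
    (x z : G) (hx : x ∈ B) (hz : z ∈ B) (h : orderOf x ∣ orderOf z) :
    x ∈ Subgroup.zpowers z := by
  have h1 := mem_zpowers_of_orderOf_dvd (⟨x, hx⟩ : B) ⟨z, hz⟩ (by
    rw [Subgroup.orderOf_mk, Subgroup.orderOf_mk]; exact h)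
  obtain ⟨k, hk⟩ := h1
  exact ⟨k, congrArg Subtype.val hk⟩

section
variable {G : Type*} [Group G] [Finite G]

theorem bs_not_dvd (S : Sylow 2 G) :
    ¬ 2 ∣ ((S : Subgroup G) ⊓ Subgroup.centralizer
      ((⁅(S : Subgroup G), (S : Subgroup G)⁆ : Subgroup G) : Set G)).relIndex
      (Subgroup.centralizer ((⁅(S : Subgroup G), (S : Subgroup G)⁆ : Subgroup G) : Set G)) := by
  haveI : Fact (Nat.Prime 2) := ⟨Nat.prime_two⟩
  set D : Subgroup G := ⁅(S : Subgroup G), (S : Subgroup G)⁆ with hDdef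
  set N := Subgroup.normalizer (D : Set G) with hN
  set C := Subgroup.centralizer (D : Set G) with hC
  have hSN : (S : Subgroup G) ≤ N := le_normalizer_commutator_self _
  have hCN : C ≤ N := Subgroup.centralizer_le_normalizer _
  have h := Cfsg.Agent.Lib.Helper76.not_dvd_relIndex_inf_normal 2 (S.subtype hSN) (C.subgroupOf N)
  have hinf : ((S.subtype hSN : Sylow 2 N) : Subgroup N) ⊓ C.subgroupOf N =
      ((S : Subgroup G) ⊓ C).subgroupOf N := rfl
  rw [hinf, Subgroup.relIndex_subgroupOf hCN] at h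
  exact h

/-- a `2`-element of `C(D)` is conjugate in `C(D)` to an element of `S ⊓ C(D)` -/
theorem bs_conj_into (S : Sylow 2 G) (y : G)
    (hy : y ∈ Subgroup.centralizer ((⁅(S : Subgroup G), (S : Subgroup G)⁆ : Subgroup G) : Set G))
    (k : ℕ) (hk : orderOf y = 2 ^ k) :
    ∃ c ∈ Subgroup.centralizer ((⁅(S : Subgroup G), (S : Subgroup G)⁆ : Subgroup G) : Set G),
      c * y * c⁻¹ ∈ (S : Subgroup G) ⊓
        Subgroup.centralizer ((⁅(S : Subgroup G), (S : Subgroup G)⁆ : Subgroup G) : Set G) := by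
  haveI : Fact (Nat.Prime 2) := ⟨Nat.prime_two⟩
  set C := Subgroup.centralizer ((⁅(S : Subgroup G), (S : Subgroup G)⁆ : Subgroup G) : Set G) with hC
  have hpg : IsPGroup 2 (((S : Subgroup G) ⊓ C).subgroupOf C) :=
    (S.isPGroup'.to_le inf_le_left).comap_subtype
  let T : Sylow 2 C := hpg.toSylow (bs_not_dvd S)
  obtain ⟨c, hc⟩ := Cfsg.Agent.Lib.Helper43.exists_conj_mem_sylow T ⟨y, hy⟩ k (by
    rw [Subgroup.orderOf_mk]; exact hk)
  exact ⟨c, c.2, hc⟩

theorem bs_TI (S : Sylow 2 G) (n : ℕ) (e : (S : Subgroup G) ≃* QuaternionGroup (2 ^ (n + 2)))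
    (D : Subgroup G) (hD : D = ⁅(S : Subgroup G), (S : Subgroup G)⁆) :
    (∀ y : G, y ∈ Subgroup.centralizer (D : Set G) → Nat.card D ∣ orderOf y →
      D ≤ Subgroup.zpowers y) ∧
    (∀ g y : G, y ∈ Subgroup.centralizer (D : Set G) → Nat.card D ∣ orderOf y →
      g * y * g⁻¹ ∈ Subgroup.centralizer (D : Set G) → g ∈ Subgroup.normalizer (D : Set G)) ∧
    (∀ g y : G, g ∈ Subgroup.normalizer (D : Set G) → y ∈ Subgroup.centralizer (D : Set G) →
      Nat.card D ∣ orderOf y → g * y * g⁻¹ ∈ Subgroup.centralizer (D : Set G) ∧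
        Nat.card D ∣ orderOf (g * y * g⁻¹)) := by
  classical
  subst hD
  have hm : 3 ≤ 2 ^ (n + 2) := by
    have : 2 ^ (n + 2) = 4 * 2 ^ n := by ring
    have h1 : 1 ≤ 2 ^ n := Nat.one_le_two_pow
    omega
  set D : Subgroup G := ⁅(S : Subgroup G), (S : Subgroup G)⁆ with hDdef
  set C := Subgroup.centralizer (D : Set G) with hC
  have hcard : Nat.card D = 2 ^ (n + 2) := card_commutator_of_quat (S : Subgroup G) e
  haveI hDcyc : IsCyclic D := isCyclic_commutator_of_quat (S : Subgroup G) e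
  haveI hAcyc := isCyclic_inf_centralizer_of_quat (S : Subgroup G) e hm
  have hDS : D ≤ (S : Subgroup G) := Subgroup.commutator_le_self _
  have hDC : D ≤ C := by
    intro d hd
    rw [Subgroup.mem_centralizer_iff]
    intro d' hd'
    have := (hDcyc.commGroup.mul_comm ⟨d', hd'⟩ ⟨d, hd⟩)
    exact congrArg Subtype.val this
  have part1 : ∀ y : G, y ∈ C → Nat.card D ∣ orderOf y → D ≤ Subgroup.zpowers y := by
    intro y hy hdvd
    obtain ⟨k, r, hr, hkr⟩ := Nat.exists_eq_pow_mul_and_not_dvd (orderOf_pos y).ne' 2 (by norm_num)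
    have hy2 : orderOf (y ^ r) = 2 ^ k := by
      rw [orderOf_pow_of_dvd (by rintro rfl; simp at hr) (by rw [hkr]; exact Dvd.intro_left _ rfl), hkr]
      have hr0 : 0 < r := Nat.pos_of_ne_zero (by rintro rfl; simp at hr)
      exact Nat.mul_div_cancel _ hr0
    have hk : n + 2 ≤ k := by
      rw [hcard, hkr] at hdvd
      have hcop : Nat.Coprime (2 ^ (n + 2)) r :=
        Nat.Coprime.pow_left _ ((Nat.Prime.coprime_iff_not_dvd Nat.prime_two).mpr hr)
      have := hcop.dvd_of_dvd_mul_right hdvd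
      exact (Nat.pow_dvd_pow_iff_le_right (by norm_num)).mp this
    obtain ⟨c, hc, hcA⟩ := bs_conj_into S (y ^ r) (C.pow_mem hy r) k hy2
    intro d hd
    have h1 : orderOf d ∣ orderOf (c * y ^ r * c⁻¹) := by
      rw [orderOf_conj_eq, hy2]
      have h2 : orderOf d ∣ Nat.card D := by
        have := orderOf_dvd_natCard (⟨d, hd⟩ : D)
        rwa [Subgroup.orderOf_mk] at this
      rw [hcard] at h2
      exact h2.trans (pow_dvd_pow 2 hk)
    obtain ⟨j, hj⟩ := mem_zpowers_of_orderOf_dvd' ((S : Subgroup G) ⊓ C) d (c * y ^ r * c⁻¹)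
      ⟨hDS hd, hDC hd⟩ hcA h1
    have hj' : (c * y ^ r * c⁻¹) ^ j = d := hj
    rw [conj_zpow] at hj'
    have h3 : d * c = c * d := (Subgroup.mem_centralizer_iff.mp hc) d hd
    have h4 : (y ^ r) ^ j = d := by
      have : c * (y ^ r) ^ j = c * d := by
        rw [← h3, ← hj']; group
      exact mul_left_cancel this
    rw [← h4]
    exact Subgroup.zpow_mem _ (Subgroup.pow_mem _ (Subgroup.mem_zpowers y) r) j
  refine ⟨part1, ?_, ?_⟩
  · intro g y hy hdvd hgy
    have h1 := part1 y hy hdvd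
    have h2 := part1 (g * y * g⁻¹) hgy (by rw [orderOf_conj_eq]; exact hdvd)
    obtain ⟨d₀, hd₀⟩ := hDcyc.exists_generator
    have hd₀o : orderOf (d₀ : G) = Nat.card D := by
      rw [Subgroup.orderOf_coe]
      exact orderOf_eq_card_of_forall_mem_zpowers hd₀
    have hinv : g⁻¹ ∈ Subgroup.normalizer (D : Set G) := by
      apply mem_normalizer_of_forall_conj_mem
      intro d hd
      rw [inv_inv]
      have h3 : g⁻¹ * d * g ∈ Subgroup.zpowers y := by
        obtain ⟨j, hj⟩ := h2 hd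
        have hj' : (g * y * g⁻¹) ^ j = d := hj
        rw [conj_zpow] at hj'
        refine ⟨j, ?_⟩
        show y ^ j = _
        rw [← hj']; group
      have h4 : orderOf (g⁻¹ * d * g) ∣ orderOf (d₀ : G) := by
        have h5 := orderOf_conj_eq g⁻¹ d
        rw [inv_inv] at h5
        rw [h5, hd₀o]
        have := orderOf_dvd_natCard (⟨d, hd⟩ : D)
        rwa [Subgroup.orderOf_mk] at this
      obtain ⟨j, hj⟩ := mem_zpowers_of_orderOf_dvd' (Subgroup.zpowers y) _ (d₀ : G) h3 (h1 d₀.2) h4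
      have hj' : (d₀ : G) ^ j = g⁻¹ * d * g := hj
      rw [← hj']
      exact D.zpow_mem d₀.2 j
    have := Subgroup.inv_mem _ hinv
    rwa [inv_inv] at this
  · intro g y hg hy hdvd
    refine ⟨?_, by rw [orderOf_conj_eq]; exact hdvd⟩
    have hnorm := (Subgroup.normal_subgroupOf_centralizer_normalizer (D : Set G)).conj_mem
      ⟨y, Subgroup.centralizer_le_normalizer _ hy⟩ (Subgroup.mem_subgroupOf.mpr hy) ⟨g, hg⟩
    exact Subgroup.mem_subgroupOf.mp hnorm

end

end Cfsg.Agent.Lib.Helper19
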