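import Mathlib
import Cfsg.Prelude.Def_Characters
import Cfsg.Agent.Lib.Helper19.BSChar
import Cfsg.Agent.Lib.Helper19.BSSetup2

set_option autoImplicit false

namespace Cfsg.Agent.Lib.Helper19

open Cfsg Cfsg.Agent.Lib.Helper20 Cfsg.Agent.Lib.Helper32
open scoped ComplexConjugate

/-- the unit `I` of `ℂ` -/
noncomputable def unitI : ℂˣ := Units.mk0 Complex.I Complex.I_ne_zero

theorem unitI_sq_ne : unitI ^ 2 ≠ 1 := by
  intro h
  have h1 := congrArg (fun u : ℂˣ => (u : ℂ)) h
  simp only [unitI, Units.val_pow_eq_pow_val, Units.val_mk0, Complex.I_sq, Units.val_one] at h1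
  norm_num at h1

theorem unitI_pow_four : unitI ^ 4 = 1 := by
  ext
  simp only [unitI, Units.val_pow_eq_pow_val, Units.val_mk0, Units.val_one]
  exact Complex.I_pow_four

/-- A linear character of order four on a group with a normal odd complement to a cyclic
2-subgroup. -/
theorem exists_hom_order_four {X : Type*} [Group X] [Finite X] (K A : Subgroup X) [K.Normal]
    (hsup : K ⊔ A = ⊤) (hK : Odd (Nat.card K)) [IsCyclic A] (k : ℕ)
    (hA : Nat.card A = 2 ^ (k + 2)) :
    ∃ μ : X →* ℂˣ, (∀ y ∈ K, μ y = 1) ∧ μ ^ 2 ≠ 1 ∧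
      ∀ y : X, ¬ 2 ^ (k + 1) ∣ orderOf y → μ y = 1 := by
  classical
  set φ : A →* X ⧸ K := (QuotientGroup.mk' K).comp A.subtype with hφ
  have hsurj : Function.Surjective φ := by
    rw [← MonoidHom.range_eq_top, hφ, MonoidHom.range_comp, Subgroup.range_subtype]
    have h1 : Subgroup.map (QuotientGroup.mk' K) (K ⊔ A) = ⊤ := by
      rw [hsup]
      exact Subgroup.map_top_of_surjective _ (QuotientGroup.mk'_surjective K)
    rwa [Subgroup.map_sup, QuotientGroup.map_mk'_self, bot_sup_eq] at h1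
  have hinj : Function.Injective φ := by
    rw [injective_iff_map_eq_one]
    intro a ha
    have h1 : (a : X) ∈ K := by
      have : (QuotientGroup.mk' K) (a : X) = 1 := ha
      rwa [QuotientGroup.mk'_apply, QuotientGroup.eq_one_iff] at this
    have hcop : (Nat.card K).Coprime (Nat.card A) := by
      rw [hA]
      exact Nat.Coprime.pow_right _ (Nat.coprime_two_right.mpr hK)
    have h2 := (Subgroup.disjoint_of_coprime_natCard hcop).le_bot
      (show (a : X) ∈ K ⊓ A from ⟨h1, a.2⟩)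
    exact Subtype.ext (by simpa using h2)
  haveI : IsCyclic (X ⧸ K) := isCyclic_of_surjective φ hsurj
  have hcard : Nat.card (X ⧸ K) = 2 ^ (k + 2) := by
    rw [← hA]
    exact (Nat.card_congr (Equiv.ofBijective φ ⟨hinj, hsurj⟩)).symm
  obtain ⟨g, hg⟩ := IsCyclic.exists_generator (α := X ⧸ K)
  have hog : orderOf g = 2 ^ (k + 2) := by
    rw [orderOf_eq_card_of_forall_mem_zpowers hg, hcard]
  have hdvd : orderOf unitI ∣ orderOf g := by
    rw [hog]
    refine (orderOf_dvd_of_pow_eq_one unitI_pow_four).trans ?_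
    exact ⟨2 ^ k, by ring⟩
  set ν : X ⧸ K →* ℂˣ := monoidHomOfForallMemZpowers hg hdvd with hν
  have hνg : ν g = unitI := monoidHomOfForallMemZpowers_apply_gen hg hdvd
  refine ⟨ν.comp (QuotientGroup.mk' K), ?_, ?_, ?_⟩
  · intro y hy
    have : (QuotientGroup.mk' K) y = 1 := by
      rw [QuotientGroup.mk'_apply, QuotientGroup.eq_one_iff]
      exact hy
    rw [MonoidHom.comp_apply, this, map_one]
  · intro h
    obtain ⟨y, hy⟩ := QuotientGroup.mk'_surjective K g
    have h1 := congrArg (fun f : X →* ℂˣ => f y) h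
    simp only [MonoidHom.pow_apply, MonoidHom.comp_apply, hy, hνg, MonoidHom.one_apply] at h1
    exact unitI_sq_ne h1
  · intro y hy
    set q := (QuotientGroup.mk' K) y with hq
    have h1 : orderOf q ∣ orderOf y := orderOf_map_dvd _ y
    have h2 : orderOf q ∣ 2 ^ (k + 2) := by
      rw [← hcard]
      exact orderOf_dvd_natCard q
    obtain ⟨j, hj, hj2⟩ := (Nat.dvd_prime_pow Nat.prime_two).1 h2
    have hjk : j ≤ k := by
      by_contra hcon
      apply hy
      refine dvd_trans ?_ h1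
      rw [hj2]
      exact pow_dvd_pow 2 (by omega)
    have h3 : q ^ (2 ^ k) = 1 := by
      apply orderOf_dvd_iff_pow_eq_one.mp
      rw [hj2]
      exact pow_dvd_pow 2 hjk
    obtain ⟨i, hi⟩ := Subgroup.mem_zpowers_iff.mp (hg q)
    have h4 : g ^ (i * (2 ^ k : ℕ)) = 1 := by
      rw [zpow_mul, hi, zpow_natCast, h3]
    rw [← orderOf_dvd_iff_zpow_eq_one, hog] at h4
    have h5 : (4 : ℤ) ∣ i := by
      have h6 : ((2 ^ k : ℕ) : ℤ) * 4 ∣ ((2 ^ k : ℕ) : ℤ) * i := by
        have : ((2 ^ (k + 2) : ℕ) : ℤ) = ((2 ^ k : ℕ) : ℤ) * 4 := by push_cast; ring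
        rw [← this, mul_comm _ i]
        exact h4
      exact (mul_dvd_mul_iff_left (by positivity)).mp h6
    obtain ⟨r, rfl⟩ := h5
    rw [MonoidHom.comp_apply, ← hq, ← hi, map_zpow, hνg, zpow_mul]
    have : unitI ^ (4 : ℤ) = 1 := by
      have := unitI_pow_four
      exact_mod_cast this
    rw [this, one_zpow]

section
open QuaternionGroup

theorem quat_conj_xa_zero {m : ℕ} (i : ZMod (2 * m)) :
    (xa 0 : QuaternionGroup m)⁻¹ * a i * xa 0 = (a i)⁻¹ := by
  rw [quat_inv_xa, quat_inv_a, xa_mul_a, xa_mul_xa]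
  congr 1
  ring

variable {G : Type*} [Group G]

theorem bs_inverts (S : Subgroup G) {m : ℕ} [NeZero m] (e : S ≃* QuaternionGroup m) (hm : 3 ≤ m) :
    ∃ s₀ ∈ S, s₀ ∉ Subgroup.centralizer ((⁅S, S⁆ : Subgroup G) : Set G) ∧
      ∀ x ∈ S ⊓ Subgroup.centralizer ((⁅S, S⁆ : Subgroup G) : Set G), s₀⁻¹ * x * s₀ = x⁻¹ := by
  refine ⟨(e.symm (xa 0) : S), (e.symm (xa 0)).2, ?_, ?_⟩
  · intro h
    rw [← mem_centralizer_commutator_iff, quatX_centralizer e hm, Subgroup.mem_comap] at h
    have h1 : (xa 0 : QuaternionGroup m) ∈ Subgroup.zpowers (a 1 : QuaternionGroup m) := by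
      simpa using h
    rw [quat_mem_zpowers_a_one] at h1
    obtain ⟨i, hi⟩ := h1
    exact absurd hi (by simp)
  · rintro x ⟨hxS, hxC⟩
    have h : (⟨x, hxS⟩ : S) ∈ Subgroup.centralizer ((commutator S : Subgroup S) : Set S) :=
      (mem_centralizer_commutator_iff S ⟨x, hxS⟩).mpr hxC
    rw [quatX_centralizer e hm, Subgroup.mem_comap] at h
    have h1 : e ⟨x, hxS⟩ ∈ Subgroup.zpowers (a 1 : QuaternionGroup m) := h
    rw [quat_mem_zpowers_a_one] at h1
    obtain ⟨i, hi⟩ := h1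
    have h2 : (e.symm (xa 0))⁻¹ * (⟨x, hxS⟩ : S) * e.symm (xa 0) = (⟨x, hxS⟩ : S)⁻¹ := by
      apply e.injective
      rw [map_mul, map_mul, map_inv, map_inv, e.apply_symm_apply, hi]
      exact quat_conj_xa_zero i
    exact congrArg Subtype.val h2

theorem card_inf_centralizer_of_quat [Finite G] (S : Subgroup G) {m : ℕ} [NeZero m]
    (e : S ≃* QuaternionGroup m) (hm : 3 ≤ m) :
    Nat.card (S ⊓ Subgroup.centralizer ((⁅S, S⁆ : Subgroup G) : Set G) : Subgroup G) = 2 * m := by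
  have h1 := relIndex_centralizer_of_quat S e hm
  have h2 := Subgroup.card_mul_index
    ((Subgroup.centralizer ((⁅S, S⁆ : Subgroup G) : Set G)).subgroupOf S)
  rw [show ((Subgroup.centralizer ((⁅S, S⁆ : Subgroup G) : Set G)).subgroupOf S).index = 2 from h1,
    Nat.card_congr e.toEquiv, Nat.card_eq_fintype_card (α := QuaternionGroup m), QuaternionGroup.card,
    ← Subgroup.inf_subgroupOf_left,
    Nat.card_congr (Subgroup.subgroupOfEquivOfLe
      (inf_le_left : S ⊓ Subgroup.centralizer ((⁅S, S⁆ : Subgroup G) : Set G) ≤ S)).toEquiv] at h2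
  omega

theorem conj_mem_centralizer_of_mem_normalizer (D : Subgroup G) (x y : G)
    (hx : x ∈ Subgroup.normalizer (D : Set G)) (hy : y ∈ Subgroup.centralizer (D : Set G)) :
    x⁻¹ * y * x ∈ Subgroup.centralizer (D : Set G) := by
  rw [Subgroup.mem_centralizer_iff] at hy ⊢
  intro d hd
  have h1 : x * d * x⁻¹ ∈ D := (Subgroup.mem_normalizer_iff.mp hx d).mp hd
  have h2 := hy _ h1
  calc d * (x⁻¹ * y * x) = x⁻¹ * ((x * d * x⁻¹) * y) * x := by group
    _ = x⁻¹ * (y * (x * d * x⁻¹)) * x := by rw [h2]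
    _ = x⁻¹ * y * x * d := by group

end

section
variable {G : Type*} [Group G] [Fintype G]

/-- The linear character `μ` of order four of `C = C_G(S')` and the norm of `(1 - μ)^G`. -/
theorem bs_exists_mu (S : Sylow 2 G) (n : ℕ) (e : (S : Subgroup G) ≃* QuaternionGroup (2 ^ (n + 2))) :
    ∃ μ : Subgroup.centralizer ((⁅(S : Subgroup G), (S : Subgroup G)⁆ : Subgroup G) : Set G) →* ℂˣ,
      μ ≠ 1 ∧ (∀ y : Subgroup.centralizer
        ((⁅(S : Subgroup G), (S : Subgroup G)⁆ : Subgroup G) : Set G),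
          ¬ 2 ^ (n + 2) ∣ orderOf (y : G) → μ y = 1) ∧
      classInner (indFun _ (oneSub μ)) (indFun _ (oneSub μ)) = 3 := by
  classical
  have hm : 3 ≤ 2 ^ (n + 2) := by
    have : 2 ^ (n + 2) = 4 * 2 ^ n := by ring
    have h1 : 1 ≤ 2 ^ n := Nat.one_le_two_pow
    omega
  obtain ⟨K, hKodd, hKC, hNK, -, hKA, hidx⟩ := bs_structure S n e _ rfl
  obtain ⟨-, hTI, -⟩ := bs_TI S n e _ rfl
  obtain ⟨s₀, hs₀S, hs₀C, hs₀inv⟩ := bs_inverts (S : Subgroup G) e hm
  have hcardD := card_commutator_of_quat (S : Subgroup G) e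
  have hcardA := card_inf_centralizer_of_quat (S : Subgroup G) e hm
  have hcycA := isCyclic_inf_centralizer_of_quat (S : Subgroup G) e hm
  have hSN := le_normalizer_commutator_self (S : Subgroup G)
  set D : Subgroup G := ⁅(S : Subgroup G), (S : Subgroup G)⁆ with hDdef
  set N := Subgroup.normalizer (D : Set G) with hN
  set C := Subgroup.centralizer (D : Set G) with hC
  have hCN : C ≤ N := Subgroup.centralizer_le_normalizer _
  have hAC : (S : Subgroup G) ⊓ C ≤ C := inf_le_right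
  haveI : (K.subgroupOf C).Normal :=
    (Subgroup.normal_subgroupOf_iff_le_normalizer hKC).mpr (hCN.trans hNK)
  have hsup : K.subgroupOf C ⊔ ((S : Subgroup G) ⊓ C).subgroupOf C = ⊤ := by
    rw [← Subgroup.subgroupOf_sup hKC hAC, hKA, Subgroup.subgroupOf_self]
  have hKodd' : Odd (Nat.card (K.subgroupOf C)) := by
    rw [Nat.card_congr (Subgroup.subgroupOfEquivOfLe hKC).toEquiv]; exact hKodd
  haveI : IsCyclic (((S : Subgroup G) ⊓ C).subgroupOf C) :=
    isCyclic_of_injective (Subgroup.subgroupOfEquivOfLe hAC).toMonoidHom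
      (Subgroup.subgroupOfEquivOfLe hAC).injective
  have hcardA' : Nat.card (((S : Subgroup G) ⊓ C).subgroupOf C) = 2 ^ (n + 1 + 2) := by
    rw [Nat.card_congr (Subgroup.subgroupOfEquivOfLe hAC).toEquiv, hcardA]; ring
  obtain ⟨μ, hμK, hμ2, hμ3⟩ := exists_hom_order_four (K.subgroupOf C)
    (((S : Subgroup G) ⊓ C).subgroupOf C) hsup hKodd' (n + 1) hcardA'
  have hμ3' : ∀ y : C, ¬ 2 ^ (n + 2) ∣ orderOf (y : G) → μ y = 1 := by
    intro y hy
    apply hμ3
    rwa [← Subgroup.orderOf_coe] 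
  have hμ1 : μ ≠ 1 := by
    intro h
    apply hμ2
    ext y
    simp [h]
  refine ⟨μ, hμ1, hμ3', ?_⟩
  have H1 : ∀ x ∈ N, ∀ y ∈ C, x⁻¹ * y * x ∈ C := fun x hx y hy =>
    conj_mem_centralizer_of_mem_normalizer D x y hx hy
  apply norm_indFun_oneSub C N hCN μ H1
  · -- H2
    intro x y hy hxy
    have h1 : 2 ^ (n + 2) ∣ orderOf (y : G) := by
      by_contra hcon
      exact hy (hμ3' y hcon)
    have h2 := hTI x⁻¹ y y.2 (by rw [hcardD]; exact h1) (by simpa using hxy)
    simpa using N.inv_mem h2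
  · -- H3
    intro x hx hxC
    have hc : s₀⁻¹ * x ∈ C := by
      have h1 := Subgroup.mul_mem_iff_of_index_two hidx
        (a := (⟨s₀, hSN hs₀S⟩ : N)⁻¹) (b := ⟨x, hx⟩)
      have h2 : ((⟨s₀, hSN hs₀S⟩ : N)⁻¹ ∈ C.subgroupOf N ↔ (⟨x, hx⟩ : N) ∈ C.subgroupOf N) := by
        rw [inv_mem_iff, Subgroup.mem_subgroupOf, Subgroup.mem_subgroupOf]
        exact ⟨fun h => absurd h hs₀C, fun h => absurd h hxC⟩
      exact Subgroup.mem_subgroupOf.mp (h1.mpr h2)
    let κ : C →* C := MonoidHom.mk' (fun y => ⟨x⁻¹ * y * x, H1 x hx y y.2⟩) (by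
      intro y z
      apply Subtype.ext
      simp only [Subgroup.coe_mul]
      group)
    have hκ : μ.comp κ = μ⁻¹ := by
      apply MonoidHom.eq_of_eqOn_dense (s := ((K.subgroupOf C : Subgroup C) : Set C) ∪
        ((((S : Subgroup G) ⊓ C).subgroupOf C : Subgroup C) : Set C))
      · rw [← Subgroup.sup_eq_closure, hsup]
      · rintro y (hy | hy)
        · have h1 : κ y ∈ K.subgroupOf C := by
            rw [Subgroup.mem_subgroupOf]
            show x⁻¹ * (y : G) * x ∈ K
            have h2 := (Subgroup.mem_normalizer_iff.mp (Subgroup.inv_mem _ (hNK hx)) (y : G)).mp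
              (Subgroup.mem_subgroupOf.mp hy)
            simpa using h2
          rw [MonoidHom.comp_apply, hμK _ h1, MonoidHom.inv_apply, hμK _ hy, inv_one]
        · have h1 : κ y = (⟨s₀⁻¹ * x, hc⟩ : C)⁻¹ * y⁻¹ * ⟨s₀⁻¹ * x, hc⟩ := by
            apply Subtype.ext
            show x⁻¹ * (y : G) * x = (s₀⁻¹ * x)⁻¹ * (y : G)⁻¹ * (s₀⁻¹ * x)
            rw [← hs₀inv (y : G) (Subgroup.mem_subgroupOf.mp hy)]
            group
          rw [MonoidHom.comp_apply, h1, map_mul, map_mul, map_inv, map_inv, MonoidHom.inv_apply,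
            mul_comm, mul_inv_cancel_left]
    intro y
    have := congrArg (fun f : C →* ℂˣ => f y) hκ
    exact this
  · exact hμ2
  · have h1 := Subgroup.card_mul_index (C.subgroupOf N)
    rw [hidx, Nat.card_congr (Subgroup.subgroupOfEquivOfLe hCN).toEquiv] at h1
    omega

end

end Cfsg.Agent.Lib.Helper19
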