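import Mathlib
import Cfsg.Prelude.Def_Characters
import Cfsg.Agent.Lib.Helper19.BSChar2
import Cfsg.Agent.Lib.Helper83.Basic

set_option autoImplicit false

namespace Cfsg.Agent.Lib.Helper19

open Cfsg Cfsg.Agent.Lib.Helper20 Cfsg.Agent.Lib.Helper32
open scoped ComplexConjugate

section
universe u
variable {G : Type u} [Group G] [Fintype G]

theorem genChar_norm_two_neg_one {θ : G → ℂ} (hθ : IsGeneralizedCharacter G θ)
    (h : classInner θ θ = 2) (h0 : θ 1 = -1) :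
    ∃ μ₁ μ₂ : G → ℂ, IsIrrCharacter G μ₁ ∧ IsIrrCharacter G μ₂ ∧ μ₁ ≠ μ₂ ∧ θ = μ₁ - μ₂ := by
  classical
  have := finite_irrCharacter (G := G)
  have := Fintype.ofFinite (IrrCharacter G)
  obtain ⟨a, ha⟩ := genChar_exists_coeff hθ
  rw [genChar_norm hθ ha] at h
  have h1 : ∑ χ : IrrCharacter G, a χ ^ 2 = 2 := by exact_mod_cast h
  obtain ⟨χ, -, ψ, -, hne, hχ, hψ, hrest⟩ := int_sq_sum_eq_two Finset.univ a h1
  have hexp := genChar_expand hθ ha
  have hsum : ∑ φ : IrrCharacter G, (a φ : ℂ) • (φ : G → ℂ) =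
      (a χ : ℂ) • (χ : G → ℂ) + (a ψ : ℂ) • (ψ : G → ℂ) := by
    rw [← Finset.sum_pair (f := fun φ : IrrCharacter G => (a φ : ℂ) • (φ : G → ℂ)) hne]
    symm
    apply Finset.sum_subset (Finset.subset_univ _)
    intro k _ hk
    simp only [Finset.mem_insert, Finset.mem_singleton, not_or] at hk
    rw [hrest k (Finset.mem_univ k) hk.1 hk.2]; simp
  rw [hsum] at hexp
  obtain ⟨n, hn, hn1⟩ := irr_apply_one χ.2
  obtain ⟨m, hm, hm1⟩ := irr_apply_one ψ.2
  have hne' : (χ : G → ℂ) ≠ ψ := fun h => hne (Subtype.ext h)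
  have hdeg : (a χ : ℂ) * n + (a ψ : ℂ) * m = -1 := by
    have := congrFun hexp 1
    rw [h0] at this
    simp only [Pi.add_apply, Pi.smul_apply, smul_eq_mul, hn1, hm1] at this
    exact this.symm
  have hdeg' : a χ * n + a ψ * m = -1 := by exact_mod_cast hdeg
  rcases hχ with h | h <;> rcases hψ with h' | h'
  · exfalso; rw [h, h'] at hdeg'; omega
  · refine ⟨χ, ψ, χ.2, ψ.2, hne', ?_⟩
    rw [hexp, h, h']; simp [sub_eq_add_neg]
  · refine ⟨ψ, χ, ψ.2, χ.2, hne'.symm, ?_⟩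
    rw [hexp, h, h']; simp [sub_eq_add_neg, add_comm]
  · exfalso; rw [h, h'] at hdeg'; omega

/-- **S0844** -/
theorem bs_chars (S : Sylow 2 G) (n : ℕ) (e : (S : Subgroup G) ≃* QuaternionGroup (2 ^ (n + 2))) :
    ∃ χ₁ χ₂ : G → ℂ, Cfsg.IsIrrCharacter G χ₁ ∧ Cfsg.IsIrrCharacter G χ₂ ∧ χ₁ ≠ (fun _ => 1) ∧
      χ₂ ≠ (fun _ => 1) ∧ χ₁ 1 = χ₂ 1 + 1 ∧ ∀ g : G, ¬ 4 ∣ orderOf g → χ₁ g - χ₂ g = 1 := by
  classical
  obtain ⟨μ, hμ1, hμ3, hnorm⟩ := bs_exists_mu S n e
  set Θ := indFun _ (oneSub μ) with hΘ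
  have hgen : IsGeneralizedCharacter G Θ := genChar_indFun_oneSub μ
  have hone : IsIrrCharacter G (fun _ => (1 : ℂ)) := Cfsg.Agent.Lib.Helper83.isIrr_trivial
  have hgen1 : IsGeneralizedCharacter G (fun _ => (1 : ℂ)) := genChar_of_irr hone
  have hΘ1 : Θ 1 = 0 := indFun_oneSub_one μ
  have hin : classInner Θ (fun _ => (1 : ℂ)) = 1 := inner_indFun_oneSub_one μ hμ1
  have hin' : classInner (fun _ => (1 : ℂ)) Θ = 1 := by
    rw [← genChar_inner_comm hgen hgen1, hin]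
  have hvan : ∀ g : G, ¬ 4 ∣ orderOf g → Θ g = 0 := by
    intro g hg
    apply indFun_oneSub_eq_zero
    intro y hy
    apply hμ3
    rw [hy]
    intro hcon
    apply hg
    refine dvd_trans ?_ hcon
    exact ⟨2 ^ n, by ring⟩
  have hΔ : IsGeneralizedCharacter G (Θ - fun _ => (1 : ℂ)) := genChar_sub hgen hgen1
  have hΔnorm : classInner (Θ - fun _ => (1 : ℂ)) (Θ - fun _ => (1 : ℂ)) = 2 := by
    rw [classInner_sub_left, classInner_sub_right, classInner_sub_right, hnorm, hin, hin',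
      classInner_irr_self hone]
    norm_num
  have hΔ1 : (Θ - fun _ => (1 : ℂ) : G → ℂ) 1 = -1 := by
    simp [hΘ1]
  obtain ⟨χ₂, χ₁, h2, h1, hne, hexp⟩ := genChar_norm_two_neg_one hΔ hΔnorm hΔ1
  have hΔin : classInner (Θ - fun _ => (1 : ℂ)) (fun _ => (1 : ℂ)) = 0 := by
    rw [classInner_sub_left, hin, classInner_irr_self hone, sub_self]
  rw [hexp, classInner_sub_left] at hΔin
  refine ⟨χ₁, χ₂, h1, h2, ?_, ?_, ?_, ?_⟩
  · intro h
    rw [classInner_irr_ne h2 hone (by rw [← h]; exact hne), h, classInner_irr_self hone] at hΔin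
    norm_num at hΔin
  · intro h
    rw [classInner_irr_ne h1 hone (by rw [← h]; exact hne.symm), h, classInner_irr_self hone]
      at hΔin
    norm_num at hΔin
  · have := congrFun hexp 1
    rw [hΔ1] at this
    simp only [Pi.sub_apply] at this
    linear_combination this
  · intro g hg
    have := congrFun hexp g
    simp only [Pi.sub_apply, hvan g hg] at this
    linear_combination this

end

end Cfsg.Agent.Lib.Helper19
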