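import Mathlib
import Cfsg.Prelude.Def_Characters
import Cfsg.Agent.Lib.Helper73.BSW.Defs
import Cfsg.Agent.Lib.Helper73.BSW.CharDefs
import Cfsg.Agent.Lib.Helper73.ExcChar

/-!
# Brauer–Suzuki–Wall ladder, rung GRAM: the generalized characters `Phi K lam`.
-/

set_option autoImplicit false

namespace Cfsg.Agent.Lib.Helper19.BSW

open Cfsg Cfsg.Agent.Lib.Helper73.BSW
open scoped ComplexConjugate

section grp
variable {G : Type*} [Group G] {K H : Subgroup G} {t : G}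

theorem cfg_mem_sdiff_iff (B : Cfg K H t) {s : G} (hs : s ∈ H) (hsK : s ∉ K) (x : G) :
    (x ∈ H ∧ x ∉ K) ↔ s⁻¹ * x ∈ K := by
  have hs' : s⁻¹ ∈ H := H.inv_mem hs
  have hsK' : s⁻¹ ∉ K := fun h => hsK (by simpa using K.inv_mem h)
  constructor
  · rintro ⟨hx, hxK⟩
    exact B.mulK _ hs' hsK' _ hx hxK
  · intro h
    have hx : x = s * (s⁻¹ * x) := by simp
    refine ⟨?_, fun hxK => ?_⟩
    · rw [hx]; exact H.mul_mem hs (B.KH h)
    · apply hsK'
      have := K.mul_mem h (K.inv_mem hxK)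
      simpa [mul_assoc] using this

theorem cfg_conj_mem_iff (B : Cfg K H t) {c : G} (hc : c ∈ K) (hc1 : c ≠ 1) (x : G) :
    x⁻¹ * c * x ∈ K ↔ x ∈ H := by
  constructor
  · intro h
    have := B.ti c hc hc1 x⁻¹ (by simpa using h)
    simpa using H.inv_mem this
  · intro hx
    by_cases hxK : x ∈ K
    · exact K.mul_mem (K.mul_mem (K.inv_mem hxK) hc) hxK
    · have hx' : x⁻¹ ∈ H := H.inv_mem hx
      have hxK' : x⁻¹ ∉ K := fun h => hxK (by simpa using K.inv_mem h)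
      have := B.inv _ hx' hxK' c hc
      rw [inv_inv] at this
      rw [this]; exact K.inv_mem hc

theorem cfg_inv' (B : Cfg K H t) {x : G} (hx : x ∈ H) (hxK : x ∉ K) {c : G} (hc : c ∈ K) :
    x⁻¹ * c * x = c⁻¹ := by
  have hx' : x⁻¹ ∈ H := H.inv_mem hx
  have hxK' : x⁻¹ ∉ K := fun h => hxK (by simpa using K.inv_mem h)
  have := B.inv _ hx' hxK' c hc
  rwa [inv_inv] at this

end grp

variable {G : Type*} [Group G] [Fintype G] {K H : Subgroup G} {t : G}

open Classical in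
theorem cfg_sum_sdiff (B : Cfg K H t) :
    (∑ x : G, ((if x ∈ H then (1 : ℂ) else 0) - (if x ∈ K then (1 : ℂ) else 0))) = Nat.card K := by
  obtain ⟨s, hs, hsK⟩ := B.ex
  rw [← Cfsg.Agent.Lib.Helper73.sum_ite_mem K]
  rw [← Equiv.sum_comp (Equiv.mulLeft s⁻¹) (fun x => if x ∈ K then (1 : ℂ) else 0)]
  apply Finset.sum_congr rfl
  intro x _
  have h := cfg_mem_sdiff_iff B hs hsK x
  show _ = if s⁻¹ * x ∈ K then (1 : ℂ) else 0
  by_cases h1 : s⁻¹ * x ∈ K
  · obtain ⟨h2, h3⟩ := h.mpr h1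
    rw [if_pos h1, if_pos h2, if_neg h3]; ring
  · rw [if_neg h1]
    by_cases h2 : x ∈ K
    · rw [if_pos h2, if_pos (B.KH h2)]; ring
    · have h3 : x ∉ H := fun h3 => h1 (h.mp ⟨h3, h2⟩)
      rw [if_neg h2, if_neg h3]; ring

theorem cfg_card_H' (B : Cfg K H t) : (Nat.card H : ℂ) = 2 * Nat.card K := by
  classical
  have := cfg_sum_sdiff B
  rw [Finset.sum_sub_distrib, Cfsg.Agent.Lib.Helper73.sum_ite_mem,
    Cfsg.Agent.Lib.Helper73.sum_ite_mem] at this
  linear_combination this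

theorem cardK_ne_zero (K : Subgroup G) : (Nat.card K : ℂ) ≠ 0 := by
  have : 0 < Nat.card K := Nat.card_pos
  exact_mod_cast this.ne'

theorem cfg_indFun_apply_mem (B : Cfg K H t) (θ : K → ℂ) (c : K) (hc : c ≠ 1) :
    indFun K θ (c : G) = θ c + θ c⁻¹ := by
  classical
  rw [Cfsg.Agent.Lib.Helper19.indFun_apply]
  have hc1 : (c : G) ≠ 1 := fun h => hc (Subtype.ext h)
  have h : ∀ x : G, extendByZero K θ (x⁻¹ * (c : G) * x)
      = (if x ∈ K then (1 : ℂ) else 0) * θ c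
        + ((if x ∈ H then (1 : ℂ) else 0) - (if x ∈ K then (1 : ℂ) else 0)) * θ c⁻¹ := by
    intro x
    by_cases hxN : x ∈ H
    · by_cases hxC : x ∈ K
      · have e : x⁻¹ * (c : G) * x = c := by
          rw [mul_assoc, B.comm c c.2 x hxC, ← mul_assoc, inv_mul_cancel, one_mul]
        rw [e, Cfsg.Agent.Lib.Helper19.extendByZero_coe, if_pos hxC, if_pos hxN]
        ring
      · have e : x⁻¹ * (c : G) * x = ((c⁻¹ : K) : G) := by
          rw [cfg_inv' B hxN hxC c.2]; rfl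
        rw [e, Cfsg.Agent.Lib.Helper19.extendByZero_coe, if_neg hxC, if_pos hxN]
        ring
    · have hxC : x ∉ K := fun h => hxN (B.KH h)
      have e : x⁻¹ * (c : G) * x ∉ K := fun h => hxN ((cfg_conj_mem_iff B c.2 hc1 x).mp h)
      rw [Cfsg.Agent.Lib.Helper19.extendByZero_of_not_mem K θ e, if_neg hxC, if_neg hxN]
      ring
  simp only [h]
  rw [Finset.sum_add_distrib, ← Finset.sum_mul, ← Finset.sum_mul, cfg_sum_sdiff B,
    Cfsg.Agent.Lib.Helper73.sum_ite_mem]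
  have hq := cardK_ne_zero K
  field_simp

theorem Phi_genChar (lam : K →* ℂˣ) : IsGeneralizedCharacter G (Phi K lam) := by
  classical
  refine ⟨indFun K (fun _ => 1), indFun K (fun k => ((lam k : ℂˣ) : ℂ)),
    Cfsg.Agent.Lib.Helper19.isCharacter_indFun K _ Cfsg.Agent.Lib.Helper4.isCharacter_one,
    Cfsg.Agent.Lib.Helper19.isCharacter_indFun K _
        (Cfsg.Agent.Lib.Helper4.isCharacter_of_irr (Cfsg.Agent.Lib.Helper83.isIrr_of_hom lam)), ?_⟩
  unfold Phi
  rw [← Cfsg.Agent.Lib.Helper4.indFun_sub]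
  rfl

theorem Phi_one (lam : K →* ℂˣ) : Phi K lam 1 = 0 := by
  unfold Phi
  rw [Cfsg.Agent.Lib.Helper19.indFun_apply]
  have : ∀ x : G, extendByZero K (fun k => 1 - ((lam k : ℂˣ) : ℂ)) (x⁻¹ * 1 * x) = 0 := by
    intro x
    have e : x⁻¹ * 1 * x = ((1 : K) : G) := by simp
    rw [e, Cfsg.Agent.Lib.Helper19.extendByZero_coe]
    simp
  rw [Finset.sum_congr rfl (fun x _ => this x)]
  simp

theorem Phi_isClassFunction (lam : K →* ℂˣ) : IsClassFunction G (Phi K lam) :=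
  Cfsg.Agent.Lib.Helper19.indFun_isClassFunction K _

theorem Phi_recip (lam : K →* ℂˣ) (f : G → ℂ) (hf : IsClassFunction G f) :
    classInner (Phi K lam) f
      = (Nat.card K : ℂ)⁻¹ * ∑ᶠ k : K, (1 - ((lam k : ℂˣ) : ℂ)) * (starRingEnd ℂ) (f k) := by
  classical
  have : Fintype K := Fintype.ofFinite K
  unfold Phi
  rw [Cfsg.Agent.Lib.Helper19.frobenius_reciprocity K _ f hf, finsum_eq_sum_of_fintype]
  rfl

theorem Phi_inner_one (lam : K →* ℂˣ) (hl : lam ≠ 1) :
    classInner (Phi K lam) (fun _ => 1) = 1 := by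
  classical
  have : Fintype K := Fintype.ofFinite K
  unfold Phi
  rw [Cfsg.Agent.Lib.Helper19.frobenius_reciprocity K _ (fun _ => 1) (fun _ _ => rfl)]
  have i11 : classInner (fun _ : K => (1 : ℂ)) (fun _ => 1) = 1 :=
    Cfsg.Agent.Lib.Helper20.classInner_irr_self Cfsg.Agent.Lib.Helper4.isIrrCharacter_one
  have iL1 : classInner (fun k : K => ((lam k : ℂˣ) : ℂ)) (fun _ => 1) = 0 := by
    have := Cfsg.Agent.Lib.Helper32.lin_inner_one_right lam
    rwa [if_neg hl] at this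
  have e : (fun k : K => 1 - ((lam k : ℂˣ) : ℂ))
      = (fun _ : K => (1 : ℂ)) - (fun k : K => ((lam k : ℂˣ) : ℂ)) := rfl
  rw [e, Cfsg.Agent.Lib.Helper20.classInner_sub_left, i11, iL1]
  norm_num

theorem Phi_apply_mem (B : Cfg K H t) (lam : K →* ℂˣ) (c : K) :
    Phi K lam (c : G) = (1 - ((lam c : ℂˣ) : ℂ)) + (1 - ((lam⁻¹ c : ℂˣ) : ℂ)) := by
  by_cases hc : c = 1
  · subst hc
    have : Phi K lam ((1 : K) : G) = 0 := Phi_one lam
    rw [this]; simp
  · unfold Phi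
    rw [cfg_indFun_apply_mem B _ c hc]
    simp

theorem Phi_inv (B : Cfg K H t) (lam : K →* ℂˣ) : Phi K lam⁻¹ = Phi K lam := by
  classical
  obtain ⟨s, hs, hsK⟩ := B.ex
  funext g
  unfold Phi
  rw [Cfsg.Agent.Lib.Helper19.indFun_apply, Cfsg.Agent.Lib.Helper19.indFun_apply]
  congr 1
  rw [← Equiv.sum_comp (Equiv.mulRight s)
    (fun x => extendByZero K (fun k => 1 - ((lam k : ℂˣ) : ℂ)) (x⁻¹ * g * x))]
  apply Finset.sum_congr rfl
  intro x _
  simp only [Equiv.coe_mulRight]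
  have e : (x * s)⁻¹ * g * (x * s) = s⁻¹ * (x⁻¹ * g * x) * s := by simp [mul_assoc]
  rw [e]
  by_cases hy : x⁻¹ * g * x ∈ K
  · have e2 := cfg_inv' B hs hsK hy
    rw [e2, Cfsg.Agent.Lib.Helper19.extendByZero_of_mem K _ hy,
      Cfsg.Agent.Lib.Helper19.extendByZero_of_mem K _ (K.inv_mem hy)]
    have : (⟨(x⁻¹ * g * x)⁻¹, K.inv_mem hy⟩ : K) = (⟨x⁻¹ * g * x, hy⟩ : K)⁻¹ := rfl
    rw [this, map_inv, MonoidHom.inv_apply]
  · have hy' : s⁻¹ * (x⁻¹ * g * x) * s ∉ K := by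
      intro h
      apply hy
      have hs' : s⁻¹ ∈ H := H.inv_mem hs
      have hsK' : s⁻¹ ∉ K := fun h => hsK (by simpa using K.inv_mem h)
      have e2 := cfg_inv' B hs' hsK' h
      have e3 : s⁻¹⁻¹ * (s⁻¹ * (x⁻¹ * g * x) * s) * s⁻¹ = x⁻¹ * g * x := by simp [mul_assoc]
      rw [e3] at e2
      rw [e2]; exact K.inv_mem h
    rw [Cfsg.Agent.Lib.Helper19.extendByZero_of_not_mem K _ hy,
      Cfsg.Agent.Lib.Helper19.extendByZero_of_not_mem K _ hy']

open Classical in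
theorem Phi_inner (B : Cfg K H t) (lam mu : K →* ℂˣ) (hl : lam ≠ 1) (hm : mu ≠ 1) :
    classInner (Phi K lam) (Phi K mu)
      = 2 + (if lam = mu then 1 else 0) + (if lam = mu⁻¹ then 1 else 0) := by
  have : Fintype K := Fintype.ofFinite K
  set one : K → ℂ := fun _ => 1 with hone
  set L : K → ℂ := fun c => ((lam c : ℂˣ) : ℂ) with hL
  set M : K → ℂ := fun c => ((mu c : ℂˣ) : ℂ) with hM
  set M' : K → ℂ := fun c => ((mu⁻¹ c : ℂˣ) : ℂ) with hM'
  have hm' : mu⁻¹ ≠ 1 := by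
    intro h
    apply hm
    ext c
    have := DFunLike.congr_fun h c
    rw [MonoidHom.inv_apply, MonoidHom.one_apply] at this
    rw [inv_eq_one.mp this]
    rfl
  have i11 : classInner one one = 1 :=
    Cfsg.Agent.Lib.Helper20.classInner_irr_self Cfsg.Agent.Lib.Helper4.isIrrCharacter_one
  have iL1 : classInner L one = 0 := by
    have := Cfsg.Agent.Lib.Helper32.lin_inner_one_right lam
    rwa [if_neg hl] at this
  have i1M : classInner one M = 0 := by
    have := Cfsg.Agent.Lib.Helper32.lin_inner_one_left mu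
    rwa [if_neg hm] at this
  have i1M' : classInner one M' = 0 := by
    have := Cfsg.Agent.Lib.Helper32.lin_inner_one_left mu⁻¹
    rwa [if_neg hm'] at this
  have iLM : classInner L M = if lam = mu then 1 else 0 :=
    Cfsg.Agent.Lib.Helper32.lin_inner lam mu
  have iLM' : classInner L M' = if lam = mu⁻¹ then 1 else 0 :=
    Cfsg.Agent.Lib.Helper32.lin_inner lam mu⁻¹
  have h1 := Cfsg.Agent.Lib.Helper19.frobenius_reciprocity K (one - L) (Phi K mu)
    (Phi_isClassFunction mu)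
  have h2 : (fun h : K => Phi K mu h) = (one - M) + (one - M') :=
    funext (fun c => Phi_apply_mem B mu c)
  rw [h2] at h1
  have h3 : Phi K lam = indFun K (one - L) := rfl
  rw [h3, h1]
  simp only [Cfsg.Agent.Lib.Helper20.classInner_add_right,
      Cfsg.Agent.Lib.Helper20.classInner_sub_left, Cfsg.Agent.Lib.Helper20.classInner_sub_right,
      i11, iL1, i1M, i1M', iLM, iLM']
  ring_nf

end Cfsg.Agent.Lib.Helper19.BSW
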