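import Mathlib
import Cfsg.Prelude.Def_Characters
import Cfsg.Agent.Lib.Helper19.BSWGram

/-!
# Brauer–Suzuki–Wall ladder, rung FREL: the class-algebra relation for `Phi K lam`.
-/

set_option autoImplicit false

namespace Cfsg.Agent.Lib.Helper19.BSW

open Cfsg Cfsg.Agent.Lib.Helper73.BSW Cfsg.Agent.Lib.Helper73 Cfsg.Agent.Lib.Helper81
open scoped ComplexConjugate

section grp
variable {G : Type*} [Group G] {K H : Subgroup G} {t : G}

theorem cfg_invol_iff (B : Cfg K H t) {c : G} (hc : c ∈ K) (hc1 : c ≠ 1) (s : G) :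
    (orderOf s = 2 ∧ orderOf (s⁻¹ * c) = 2) ↔ (s ∈ H ∧ s ∉ K) := by
  constructor
  · rintro ⟨hs, ht⟩
    have hs' := inv_eq_self_of_orderOf_two hs
    have ht' := mul_self_of_orderOf_two ht
    have h1 : s⁻¹ * c * s = c⁻¹ := by
      have : s⁻¹ * c * s⁻¹ * c = 1 := by simpa [mul_assoc] using ht'
      have h2 : s⁻¹ * c * s⁻¹ = c⁻¹ := eq_inv_of_mul_eq_one_left this
      rw [← h2, hs']
    have hsN : s ∈ H := (cfg_conj_mem_iff B hc hc1 s).mp (by rw [h1]; exact K.inv_mem hc)
    refine ⟨hsN, fun hsC => ?_⟩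
    have h2 : s⁻¹ * c * s = c := by
      rw [mul_assoc, B.comm c hc s hsC, ← mul_assoc, inv_mul_cancel, one_mul]
    have h3 : c * c = 1 := by
      have : c = c⁻¹ := h2.symm.trans h1
      calc c * c = c * c⁻¹ := by rw [← this]
        _ = 1 := mul_inv_cancel c
    have h4 : c = t := B.uniq c hc (orderOf_two_of_mul_self h3 hc1)
    have h5 : s = t := B.uniq s hsC hs
    rw [h4, h5, inv_mul_cancel] at ht
    simp at ht
  · rintro ⟨hsN, hsC⟩
    refine ⟨B.invol s hsN hsC, B.invol _ (H.mul_mem (H.inv_mem hsN) (B.KH hc)) fun h => hsC ?_⟩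
    have : s⁻¹ ∈ K := by
      have := K.mul_mem h (K.inv_mem hc)
      simpa [mul_assoc] using this
    simpa using K.inv_mem this

theorem cfg_orderOf_two_iff (B : Cfg K H t) (g : G) : orderOf g = 2 ↔ IsConj t g := by
  refine ⟨B.cj g, fun h => ?_⟩
  obtain ⟨c, hc⟩ := isConj_iff.mp h
  rw [← hc]
  have := orderOf_conj' c⁻¹ t
  rw [inv_inv] at this
  rw [this, B.ot]

end grp

variable {G : Type*} [Group G] [Fintype G] {K H : Subgroup G} {t : G}

theorem cfg_conv_of_mem (B : Cfg K H t) {c : G} (hc : c ∈ K) (hc1 : c ≠ 1) :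
    conv (invInd G) (invInd G) c = Nat.card K := by
  classical
  unfold conv
  have h : ∀ g : G, invInd G g * invInd G (g⁻¹ * c)
      = (if g ∈ H then (1 : ℂ) else 0) - (if g ∈ K then (1 : ℂ) else 0) := by
    intro g
    have h1 := cfg_invol_iff B hc hc1 g
    unfold invInd
    by_cases hgN : g ∈ H
    · by_cases hgC : g ∈ K
      · have h2 : ¬ (orderOf g = 2 ∧ orderOf (g⁻¹ * c) = 2) := by
          rw [h1]; tauto
        rw [if_pos hgN, if_pos hgC]
        by_cases h3 : orderOf g = 2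
        · have h4 : ¬ orderOf (g⁻¹ * c) = 2 := fun h4 => h2 ⟨h3, h4⟩
          rw [if_neg h4]; simp
        · rw [if_neg h3]; simp
      · have h2 := h1.mpr ⟨hgN, hgC⟩
        rw [if_pos hgN, if_neg hgC, if_pos h2.1, if_pos h2.2]; simp
    · have hgC : g ∉ K := fun h => hgN (B.KH h)
      have h2 : ¬ (orderOf g = 2 ∧ orderOf (g⁻¹ * c) = 2) := by
        rw [h1]; tauto
      rw [if_neg hgN, if_neg hgC]
      by_cases h3 : orderOf g = 2
      · have h4 : ¬ orderOf (g⁻¹ * c) = 2 := fun h4 => h2 ⟨h3, h4⟩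
        rw [if_neg h4]; simp
      · rw [if_neg h3]; simp
  simp only [h]
  exact cfg_sum_sdiff B

theorem cfg_sum_invInd_mul (B : Cfg K H t) {χ : G → ℂ} (hχ : IsClassFunction G χ) :
    ∑ g : G, invInd G g * χ g = H.index * χ t := by
  classical
  have h := Cfsg.Agent.Lib.Helper4.sum_isConj_mul t hχ
  rw [B.cent] at h
  rw [← h]
  apply Finset.sum_congr rfl
  intro g _
  unfold invInd
  simp only [cfg_orderOf_two_iff B]

theorem cfg_omega_invInd (B : Cfg K H t) {χ : G → ℂ} (hχ : IsClassFunction G χ) :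
    omega χ (invInd G) = H.index * χ t / χ 1 := by
  unfold omega
  rw [← Finset.sum_div, cfg_sum_invInd_mul B hχ]

theorem cfg_omega_conv (B : Cfg K H t) {χ : G → ℂ} (hχ : IsIrrCharacter G χ) :
    omega χ (conv (invInd G) (invInd G)) = (H.index * χ t / χ 1) ^ 2 := by
  have hcl : IsClassFunction G χ :=
    Cfsg.Agent.Lib.Helper4.isClassFunction_of_char (Cfsg.Agent.Lib.Helper4.isCharacter_of_irr hχ)
  rw [omega_conv hχ (invInd G) (invInd G) invInd_isClassFunction, cfg_omega_invInd B hcl, sq]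

theorem cfg_sum_conv_mul (B : Cfg K H t) {χ : G → ℂ} (hχ : IsIrrCharacter G χ) :
    ∑ g : G, conv (invInd G) (invInd G) g * χ g = (H.index : ℂ) ^ 2 * (χ t) ^ 2 / χ 1 := by
  have h1 := irr_one_ne_zero hχ
  have h2 := cfg_omega_conv B hχ
  unfold omega at h2
  rw [← Finset.sum_div] at h2
  field_simp at h2
  field_simp
  linear_combination h2

theorem cfg_card_G (B : Cfg K H t) : (Nat.card G : ℂ) = 2 * Nat.card K * H.index := by
  rw [← H.card_mul_index]
  push_cast
  rw [cfg_card_H' B]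

theorem index_ne_zero' (H : Subgroup G) : (H.index : ℂ) ≠ 0 := by
  have : H.index ≠ 0 := Subgroup.index_ne_zero_of_finite
  exact_mod_cast this

theorem sum_lin_eq_zero [Fintype K] (lam : K →* ℂˣ) (hl : lam ≠ 1) :
    ∑ k : K, ((lam k : ℂˣ) : ℂ) = 0 := by
  classical
  have iL1 : classInner (fun k : K => ((lam k : ℂˣ) : ℂ)) (fun _ => 1) = 0 := by
    have := Cfsg.Agent.Lib.Helper32.lin_inner_one_right lam
    rwa [if_neg hl] at this
  unfold classInner at iL1
  simp only [map_one, mul_one] at iL1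
  rcases mul_eq_zero.mp iL1 with h | h
  · exact absurd (inv_eq_zero.mp h) (cardK_ne_zero K)
  · exact h

theorem frel_char (B : Cfg K H t) [Fintype (IrrCharacter G)] (lam : K →* ℂˣ) (hl : lam ≠ 1) :
    (H.index : ℂ) * ∑ χ : IrrCharacter G,
        classInner (Phi K lam) (χ : G → ℂ) * ((χ : G → ℂ) t) ^ 2 / (χ : G → ℂ) 1
      = 2 * (Nat.card K : ℂ) ^ 2 := by
  classical
  have : Fintype K := Fintype.ofFinite K
  set a : G → ℂ := conv (invInd G) (invInd G) with ha
  have hacl : IsClassFunction G a := conv_classFunction invInd_isClassFunction invInd_isClassFunction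
  have hn := index_ne_zero' H
  have hm := cardK_ne_zero K
  have hG : (Nat.card G : ℂ) ≠ 0 := by
    rw [cfg_card_G B]
    exact mul_ne_zero (mul_ne_zero two_ne_zero hm) hn
  -- first evaluation
  have e1 : ∑ g : G, a g * Phi K lam g
      = (H.index : ℂ) ^ 2 * ∑ χ : IrrCharacter G,
        classInner (Phi K lam) (χ : G → ℂ) * ((χ : G → ℂ) t) ^ 2 / (χ : G → ℂ) 1 := by
    have hexp := Cfsg.Agent.Lib.Helper20.eq_sum_classInner_smul (Phi_isClassFunction (K := K) lam)
    have h1 : ∀ g : G, a g * Phi K lam g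
        = ∑ χ : IrrCharacter G, classInner (Phi K lam) (χ : G → ℂ) * (a g * (χ : G → ℂ) g) := by
      intro g
      conv_lhs => rw [hexp]
      rw [Finset.sum_apply, Finset.mul_sum]
      apply Finset.sum_congr rfl
      intro χ _
      simp only [Pi.smul_apply, smul_eq_mul]
      ring
    rw [Finset.sum_congr rfl (fun g _ => h1 g), Finset.sum_comm, Finset.mul_sum]
    apply Finset.sum_congr rfl
    intro χ _
    rw [← Finset.mul_sum, cfg_sum_conv_mul B χ.2]
    ring
  -- second evaluation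
  have e2 : ∑ g : G, a g * Phi K lam g = (Nat.card G : ℂ) * Nat.card K := by
    have hf : IsClassFunction G (fun g => conj (a g)) := fun g h => by
      show conj (a _) = conj (a _); rw [hacl]
    have h1 := Phi_recip (K := K) lam (fun g => conj (a g)) hf
    rw [finsum_eq_sum_of_fintype] at h1
    have h2 : ∀ k : K, (1 - ((lam k : ℂˣ) : ℂ)) * (starRingEnd ℂ) (conj (a k))
        = (1 - ((lam k : ℂˣ) : ℂ)) * Nat.card K := by
      intro k
      rw [Complex.conj_conj]
      by_cases hk : k = 1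
      · subst hk; simp
      · have hk1 : (k : G) ≠ 1 := fun h => hk (Subtype.ext h)
        rw [ha, cfg_conv_of_mem B k.2 hk1]
    rw [Finset.sum_congr rfl (fun k _ => h2 k), ← Finset.sum_mul, Finset.sum_sub_distrib,
      sum_lin_eq_zero lam hl, Finset.sum_const, Finset.card_univ, ← Nat.card_eq_fintype_card,
      nsmul_eq_mul, mul_one, sub_zero] at h1
    unfold classInner at h1
    simp only [Complex.conj_conj] at h1
    have h3 : ∑ g : G, a g * Phi K lam g = ∑ g : G, Phi K lam g * a g :=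
      Finset.sum_congr rfl (fun g _ => mul_comm _ _)
    rw [h3]
    field_simp at h1
    linear_combination h1
  rw [e1, cfg_card_G B] at e2
  have : (H.index : ℂ) * ((H.index : ℂ) * ∑ χ : IrrCharacter G,
        classInner (Phi K lam) (χ : G → ℂ) * ((χ : G → ℂ) t) ^ 2 / (χ : G → ℂ) 1)
      = (H.index : ℂ) * (2 * (Nat.card K : ℂ) ^ 2) := by
    linear_combination e2
  exact mul_left_cancel₀ hn this

end Cfsg.Agent.Lib.Helper19.BSW
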