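import Mathlib
import Cfsg.Prelude.Def_Characters
import Cfsg.Agent.Lib.Helper19.BSWFrel

/-!
# Brauer–Suzuki–Wall ladder, rung AVAL: the number of ways of writing `y` as a product of two
involutions, in terms of the exceptional character `X`.
-/

set_option autoImplicit false

namespace Cfsg.Agent.Lib.Helper19.BSW

open Cfsg Cfsg.Agent.Lib.Helper73.BSW Cfsg.Agent.Lib.Helper73 Cfsg.Agent.Lib.Helper81
open scoped ComplexConjugate

variable {G : Type*} [Group G] [Fintype G] {K H : Subgroup G} {t : G}

theorem conv_eq_aCount (y : G) : conv (invInd G) (invInd G) y = aCount y := by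
  classical
  unfold conv aCount invInd
  have h : ∀ g : G, (if orderOf g = 2 then (1 : ℂ) else 0) * (if orderOf (g⁻¹ * y) = 2 then 1 else 0)
      = if (orderOf g = 2 ∧ orderOf (g⁻¹ * y) = 2) then 1 else 0 := by
    intro g
    by_cases h1 : orderOf g = 2 <;> by_cases h2 : orderOf (g⁻¹ * y) = 2 <;> simp [h1, h2]
  rw [Finset.sum_congr rfl (fun g _ => h g), Finset.sum_boole, Nat.card_eq_fintype_card,
    Fintype.card_subtype]

theorem conjCount_isClassFunction (C : Subgroup G) : IsClassFunction G (conjCount C) := by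
  intro g h
  have := conjCount_conj C h⁻¹ g
  simpa using this

omit [Fintype G] in
theorem deltaOne_isClassFunction : IsClassFunction G (deltaOne G) := by
  classical
  intro g h
  unfold deltaOne
  have : h * g * h⁻¹ = 1 ↔ g = 1 := by
    constructor
    · intro e
      have : g = h⁻¹ * (h * g * h⁻¹) * h := by simp [mul_assoc]
      rw [this, e]; simp
    · rintro rfl; simp
  simp only [this]

theorem omega_const_one {χ : G → ℂ} (hχ : IsIrrCharacter G χ) [Decidable (χ = fun _ => 1)] :
    omega χ (fun _ => 1) = (Nat.card G : ℂ) * (if χ = (fun _ => 1) then 1 else 0) / χ 1 := by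
  classical
  have h := Cfsg.Agent.Lib.Helper20.classInner_irr hχ Cfsg.Agent.Lib.Helper4.isIrrCharacter_one
  have hG : (Nat.card G : ℂ) ≠ 0 := by
    have : 0 < Nat.card G := Nat.card_pos
    exact_mod_cast this.ne'
  unfold classInner at h
  simp only [map_one, mul_one] at h
  unfold omega
  rw [← Finset.sum_div]
  congr 1
  simp only [one_mul]
  have h' : ∑ g : G, χ g = (Nat.card G : ℂ) * ((Nat.card G : ℂ)⁻¹ * ∑ g : G, χ g) := by
    field_simp
  rw [h', h]

theorem omega_conj_irr {χ X : G → ℂ} (hχ : IsIrrCharacter G χ) (hX : IsIrrCharacter G X)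
    [Decidable (χ = X)] :
    omega χ (fun g => conj (X g)) = (Nat.card G : ℂ) * (if χ = X then 1 else 0) / χ 1 := by
  classical
  have h := Cfsg.Agent.Lib.Helper20.classInner_irr hχ hX
  have hG : (Nat.card G : ℂ) ≠ 0 := by
    have : 0 < Nat.card G := Nat.card_pos
    exact_mod_cast this.ne'
  unfold classInner at h
  unfold omega
  rw [← Finset.sum_div]
  congr 1
  have h' : ∑ g : G, conj (X g) * χ g
      = (Nat.card G : ℂ) * ((Nat.card G : ℂ)⁻¹ * ∑ g : G, χ g * conj (X g)) := by
    rw [← mul_assoc, mul_inv_cancel₀ hG, one_mul]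
    exact Finset.sum_congr rfl (fun g _ => mul_comm _ _)
  rw [h', h]

open Classical in
theorem sum_eq_one_add [Fintype K] (χ : G → ℂ) :
    ∑ x : K, χ x = χ 1 + ∑ x : K, (if x = 1 then 0 else χ x) := by
  have h : ∀ x : K, χ x = (if x = 1 then χ 1 else 0) + (if x = 1 then 0 else χ x) := by
    intro x
    by_cases hx : x = 1
    · subst hx; simp
    · simp [hx]
  conv_lhs => rw [Finset.sum_congr rfl (fun x _ => h x)]
  rw [Finset.sum_add_distrib, Finset.sum_ite_eq' Finset.univ (1 : K)]
  simp

open Classical in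
theorem aform_val (B : Cfg K H t) (X : G → ℂ) (hX : IsIrrCharacter G X) (hX1 : X ≠ fun _ => 1)
    (q : ℕ) (δ : ℤ) (hδ : δ = 1 ∨ δ = -1) (hq : X 1 = q)
    (hK : 2 * (Nat.card K : ℤ) = q - δ) (hn : 2 * (H.index : ℤ) = q * (q + δ))
    (hXK : ∀ x ∈ K, x ≠ 1 → X x = δ)
    (hdag : ∀ χ : G → ℂ, IsIrrCharacter G χ → χ ≠ (fun _ => 1) → χ ≠ X →
      (χ t) ^ 2 * ((q : ℂ) + δ) = -2 * δ * χ 1 * ∑ᶠ x : K, (if x = 1 then 0 else χ x)) :
    ∀ y : G, ¬ ConjIn K y → 2 * (aCount y : ℂ) = (1 + δ) * q + (q - 1) * X y := by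
  have : Fintype K := Fintype.ofFinite K
  set m : ℂ := (Nat.card K : ℂ) with hm
  set n : ℂ := (H.index : ℂ) with hnn
  have hm0 : m ≠ 0 := cardK_ne_zero K
  have hn0 : n ≠ 0 := index_ne_zero' H
  have hKc : 2 * m = q - δ := by
    have : ((2 * (Nat.card K : ℤ) : ℤ) : ℂ) = ((q - δ : ℤ) : ℂ) := by rw [hK]
    push_cast at this
    exact this
  have hnc : 2 * n = q * (q + δ) := by
    have : ((2 * (H.index : ℤ) : ℤ) : ℂ) = ((q * (q + δ) : ℤ) : ℂ) := by rw [hn]
    push_cast at this
    exact this
  have hδ2 : (δ : ℂ) ^ 2 = 1 := by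
    rcases hδ with h | h <;> rw [h] <;> norm_num
  have hq0 : (q : ℂ) ≠ 0 := by
    intro h
    rw [h, zero_mul] at hnc
    exact hn0 (by linear_combination (1 / 2 : ℂ) * hnc)
  have hqd : (q : ℂ) + δ ≠ 0 := by
    intro h
    rw [h, mul_zero] at hnc
    exact hn0 (by linear_combination (1 / 2 : ℂ) * hnc)
  have hG : (Nat.card G : ℂ) = 2 * m * n := cfg_card_G B
  set α : ℂ := (n / (2 * m)) * (1 + 2 * δ * (m - 1) / (q + δ)) with hα
  set β : ℂ := (n / (2 * m)) * (1 / q + 2 * (m - 1) / (q + δ)) with hβ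
  set γ : ℂ := - n * δ / (m * (q + δ)) with hγ
  set Ξ : G → ℂ := conjCount K - (Nat.card G : ℂ) • deltaOne G with hΞ
  set a : G → ℂ := conv (invInd G) (invInd G) with ha
  have hacl : IsClassFunction G a := conv_classFunction invInd_isClassFunction invInd_isClassFunction
  have hXcl : IsClassFunction G X :=
    Cfsg.Agent.Lib.Helper4.isClassFunction_of_char (Cfsg.Agent.Lib.Helper4.isCharacter_of_irr hX)
  set w : G → ℂ := α • (fun _ => (1 : ℂ)) + β • (fun g => conj (X g)) + γ • Ξ with hw
  have hwcl : IsClassFunction G w := by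
    intro g h
    simp only [hw, hΞ, Pi.add_apply, Pi.smul_apply, Pi.sub_apply, smul_eq_mul]
    rw [hXcl g h, conjCount_isClassFunction K g h, deltaOne_isClassFunction g h]
  have ht1 : t ≠ 1 := ne_one_of_orderOf_two B.ot
  have key : a = w := by
    apply eq_of_omega_eq hacl hwcl
    intro χ
    have hχ := χ.2
    have hχcl : IsClassFunction G (χ : G → ℂ) :=
      Cfsg.Agent.Lib.Helper4.isClassFunction_of_char (Cfsg.Agent.Lib.Helper4.isCharacter_of_irr hχ)
    have h1 := irr_one_ne_zero hχ
    rw [ha, cfg_omega_conv B hχ, hw, omega_add, omega_add, omega_smul, omega_smul, omega_smul,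
      hΞ, omega_sub, omega_smul, omega_conjCount K hχcl, omega_deltaOne h1, omega_const_one hχ,
      omega_conj_irr hχ hX, sum_eq_one_add (K := K) (χ : G → ℂ), hG, ← hnn]
    by_cases c1 : (χ : G → ℂ) = fun _ => 1
    · have c2 : (χ : G → ℂ) ≠ X := fun h => hX1 (h.symm.trans c1)
      rw [if_pos c1, if_neg c2, c1]
      have hs : ∑ x : K, (if x = 1 then (0 : ℂ) else 1) = m - 1 := by
        have h : ∀ x : K, (if x = 1 then (0 : ℂ) else 1) = 1 - (if x = 1 then 1 else 0) := by
          intro x; by_cases hx : x = 1 <;> simp [hx]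
        rw [Finset.sum_congr rfl (fun x _ => h x), Finset.sum_sub_distrib,
          Finset.sum_ite_eq' Finset.univ (1 : K), Finset.sum_const, Finset.card_univ,
          ← Nat.card_eq_fintype_card]
        simp [hm]
      rw [hs, hα, hγ]
      field_simp
      ring
    · by_cases c2 : (χ : G → ℂ) = X
      · rw [if_neg c1, if_pos c2, c2]
        have hs : ∑ x : K, (if x = 1 then (0 : ℂ) else X x) = (m - 1) * δ := by
          have h : ∀ x : K, (if x = 1 then (0 : ℂ) else X x) = δ - (if x = 1 then (δ : ℂ) else 0) := by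
            intro x
            by_cases hx : x = 1
            · simp [hx]
            · have hx1 : (x : G) ≠ 1 := fun h => hx (Subtype.ext h)
              simp [hx, hXK x x.2 hx1]
          rw [Finset.sum_congr rfl (fun x _ => h x), Finset.sum_sub_distrib,
            Finset.sum_ite_eq' Finset.univ (1 : K), Finset.sum_const, Finset.card_univ,
            ← Nat.card_eq_fintype_card]
          simp [hm]
          ring
        rw [hs, hXK t B.tK ht1, hq, hβ, hγ]
        field_simp
        linear_combination n * (δ - q + 2 * q * m) * hδ2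
      · rw [if_neg c1, if_neg c2]
        have hd := hdag χ hχ c1 c2
        rw [finsum_eq_sum_of_fintype] at hd
        set S : ℂ := ∑ x : K, (if x = 1 then (0 : ℂ) else (χ : G → ℂ) x) with hS
        rw [hγ]
        field_simp
        linear_combination n * hd
  intro y hy
  have hy1 : y ≠ 1 := by
    rintro rfl
    exact hy ⟨1, by simp [K.one_mem]⟩
  have hc0 : conjCount K y = 0 := by
    unfold conjCount
    apply Finset.sum_eq_zero
    intro x _
    rw [if_neg]
    intro h
    exact hy ⟨x⁻¹, by simpa using h⟩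
  have hd0 : deltaOne G y = 0 := by unfold deltaOne; rw [if_neg hy1]
  have hay : (aCount y : ℂ) = α + β * conj (X y) := by
    rw [← conv_eq_aCount y, ← ha, key]
    simp only [hw, hΞ, Pi.add_apply, Pi.smul_apply, Pi.sub_apply, smul_eq_mul, hc0, hd0]
    ring
  have hqd' : (q : ℂ) - δ ≠ 0 := by
    rw [← hKc]; exact mul_ne_zero two_ne_zero hm0
  have hm' : m = (q - δ) / 2 := by linear_combination (1 / 2 : ℂ) * hKc
  have hn' : n = q * (q + δ) / 2 := by linear_combination (1 / 2 : ℂ) * hnc
  have h2α : 2 * α = (1 + δ) * q := by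
    rw [hα, hm', hn']
    field_simp
    ring
  have h2β : 2 * β = q - 1 := by
    rw [hβ, hm', hn']
    field_simp
    ring
  have e1 : 2 * (aCount y : ℂ) = (1 + δ) * q + (q - 1) * conj (X y) := by
    rw [hay]
    linear_combination h2α + conj (X y) * h2β
  have e2 := congrArg conj e1
  simp only [map_mul, map_add, map_sub, map_one, Complex.conj_conj, map_natCast, map_intCast,
    map_ofNat] at e2
  exact e2

end Cfsg.Agent.Lib.Helper19.BSW
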