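import Mathlib
import Cfsg.Agent.Lib.Helper73.BSW.Defs
import Cfsg.Agent.Lib.Helper73.BSW.Defs2
import Cfsg.Agent.Lib.Helper91.BSWSra
import Cfsg.Agent.Lib.Helper4.CharIntegral
import Cfsg.Agent.Lib.Helper36.BSWHall

/-!
# Brauer–Suzuki–Wall ladder, rung ME: centralisers and classes of the elements of `U`.
-/

set_option autoImplicit false

namespace Cfsg.Agent.Lib.Helper19.BSW

open Cfsg.Agent.Lib.Helper73.BSW Cfsg.Agent.Lib.Helper91.BSW


section grp
variable {G : Type*} [Group G] {K : Subgroup G}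

theorem sReal_of_conj {g y : G} (h : SReal (g * y * g⁻¹)) : SReal y := by
  obtain ⟨u, hu, huy⟩ := h
  refine ⟨g⁻¹ * u * g, ?_, ?_⟩
  · have := (MulAut.conj g⁻¹).orderOf_eq u
    simpa [hu] using this
  · have : g⁻¹ * u * g * y * (g⁻¹ * u * g)⁻¹ = g⁻¹ * (u * (g * y * g⁻¹) * u⁻¹) * g := by group
    rw [this, huy]; group

theorem sReal_of_inv {y : G} (h : SReal y⁻¹) : SReal y := by
  obtain ⟨u, hu, huy⟩ := h
  refine ⟨u, hu, ?_⟩
  have := congrArg (·⁻¹) huy
  simp only [mul_inv_rev, inv_inv] at this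
  rw [← this]; group

theorem conjIn_of_inv {y : G} (h : ConjIn K y⁻¹) : ConjIn K y := by
  obtain ⟨g, hg⟩ := h
  refine ⟨g, ?_⟩
  have := K.inv_mem hg
  simpa [mul_assoc] using this

theorem inU_conj {y : G} (h : InU K y) (g : G) : InU K (g * y * g⁻¹) :=
  ⟨fun h1 => h.1 (conjIn_conj h1), fun h1 => h.2 (sReal_of_conj h1)⟩

theorem inU_inv {y : G} (h : InU K y) : InU K y⁻¹ :=
  ⟨fun h1 => h.1 (conjIn_of_inv h1), fun h1 => h.2 (sReal_of_inv h1)⟩

theorem centralizer_inv (y : G) :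
    Subgroup.centralizer ({y⁻¹} : Set G) = Subgroup.centralizer ({y} : Set G) := by
  ext z
  rw [mem_cent, mem_cent]
  constructor
  · intro h
    have : y * (z * y⁻¹) * y = y * (y⁻¹ * z) * y := by rw [h]
    simpa [mul_assoc] using this.symm
  · intro h
    have : y⁻¹ * (z * y) * y⁻¹ = y⁻¹ * (y * z) * y⁻¹ := by rw [h]
    simpa [mul_assoc] using this.symm

end grp

universe u
variable {G : Type u} [Group G] [Fintype G] {K H : Subgroup G} {t : G} {q : ℕ} {X : G → ℤ}

/-- the arithmetic of the case `δ = -1`. -/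
theorem minus_arith (C : CharOut K q (-1) X) :
    ∃ m' : ℕ, Nat.card K = m' + 1 ∧ q = 2 * m' + 1 ∧ Nat.card G = q * (2 * (m' + 1) * m') := by
  have hK := C.cardK
  have hG := C.cardG
  have hpos : 0 < Nat.card K := Nat.card_pos
  obtain ⟨m', hm'⟩ : ∃ m', Nat.card K = m' + 1 := ⟨Nat.card K - 1, by omega⟩
  have hq : q = 2 * m' + 1 := by
    rw [hm'] at hK
    push_cast at hK
    omega
  refine ⟨m', hm', hq, ?_⟩
  have : (2 * (Nat.card G : ℤ)) = 2 * ((q * (2 * (m' + 1) * m') : ℕ) : ℤ) := by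
    rw [hG, hq]; push_cast; ring
  have h2 : (Nat.card G : ℤ) = ((q * (2 * (m' + 1) * m') : ℕ) : ℤ) := by linarith
  exact_mod_cast h2

theorem coprime_arith (m' : ℕ) : Nat.Coprime (2 * m' + 1) (2 * (m' + 1) * m') := by
  apply Nat.Coprime.mul_right
  · apply Nat.Coprime.mul_right
    · rw [Nat.coprime_comm]; simp
    · have : 2 * m' + 1 = m' + (m' + 1) := by ring
      rw [this]; simp
  · have : 2 * m' + 1 = 1 + 2 * m' := by ring
    rw [this]; simp

theorem inU_of_mem_centralizer (B : Cfg K H t) {y : G} (hy : InU K y) :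
    ∀ z ∈ Subgroup.centralizer ({y} : Set G), z ≠ 1 → InU K z := by
  intro z hz h1
  have hzK := sr_cent_out B hy.1 z hz h1
  refine ⟨hzK, ?_⟩
  rintro ⟨u, hu, huz⟩
  apply hy.2
  refine ⟨u, hu, sr_inverts B hzK hu huz y ?_⟩
  rw [mem_cent]
  exact (mem_cent.1 hz).symm

theorem prime_dvd_q (B : Cfg K H t) (C : CharOut K q (-1) X)
    (hA : StA K q X) (hC : StC K t) {y : G} (hy : InU K y) {r : ℕ} (hr : r.Prime)
    (hrc : r ∣ Nat.card (Subgroup.centralizer ({y} : Set G))) : r ∣ q := by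
  by_contra hrq
  haveI : Fact r.Prime := ⟨hr⟩
  obtain ⟨m', hm, hq, hG⟩ := minus_arith C
  obtain ⟨z, hz⟩ := exists_prime_orderOf_dvd_card' (G := Subgroup.centralizer ({y} : Set G)) r hrc
  have hzo : orderOf (z : G) = r := by rw [Subgroup.orderOf_coe, hz]
  have hz1 : (z : G) ≠ 1 := by
    intro h
    rw [h, orderOf_one] at hzo
    exact hr.one_lt.ne hzo
  have hzU := inU_of_mem_centralizer B hy z z.2 hz1
  have hodd := sr_odd B hy.1
  have hr2 : r ≠ 2 := by
    rintro rfl
    exact (Nat.not_even_iff_odd.mpr hodd) (even_iff_two_dvd.mpr hrc)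
  have hrG : r ∣ Nat.card G := hrc.trans (Subgroup.card_subgroup_dvd_card _)
  have hGpos : 0 < Nat.card G := Nat.card_pos
  have hm'0 : m' ≠ 0 := by
    rintro rfl
    rw [hG] at hGpos
    simp at hGpos
  have hq0 : q ≠ 0 := by omega
  have hr2' : ¬ r ∣ 2 := by
    intro h
    exact hr2 ((Nat.prime_dvd_prime_iff_eq hr Nat.prime_two).mp h)
  rw [hG] at hrG
  have h1 : r ∣ (m' + 1) ∨ r ∣ m' := by
    rcases (Nat.Prime.dvd_mul hr).mp hrG with h | h
    · exact absurd h hrq
    · rcases (Nat.Prime.dvd_mul hr).mp h with h | h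
      · rcases (Nat.Prime.dvd_mul hr).mp h with h | h
        · exact absurd h hr2'
        · exact Or.inl h
      · exact Or.inr h
  have hnot : ¬ (r ∣ (m' + 1) ∧ r ∣ m') := by
    rintro ⟨ha, hb⟩
    have : r ∣ 1 := (Nat.dvd_add_right hb).mp ha
    exact hr.one_lt.ne' (Nat.dvd_one.mp this)
  have hzk : ∃ k : ℕ, orderOf (z : G) = r ^ k := ⟨1, by rw [hzo, pow_one]⟩
  rcases h1 with h1 | h1
  · -- `r ∣ m`
    have h2 : ¬ r ∣ m' := fun h => hnot ⟨h1, h⟩
    have hf : (Nat.card K).factorization r = (Nat.card G).factorization r := by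
      rw [hG, hm, Nat.factorization_mul hq0 (by positivity),
        Nat.factorization_mul (by positivity) hm'0, Nat.factorization_mul (by norm_num) (by omega)]
      simp only [Finsupp.coe_add, Pi.add_apply]
      rw [Nat.factorization_eq_zero_of_not_dvd hrq, Nat.factorization_eq_zero_of_not_dvd h2,
        Nat.factorization_eq_zero_of_not_dvd hr2']
      ring
    obtain ⟨g, hg⟩ := Cfsg.Agent.Lib.Helper36.BSW.exists_conj_mem_of_hall K r hf (z : G) hzk
    exact hzU.1 ⟨g, hg⟩
  · have h2 : ¬ r ∣ (m' + 1) := fun h => hnot ⟨h, h1⟩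
    obtain ⟨y0, hy0, hty0⟩ := hC
    have hs0 : SReal y0 := ⟨t, B.ot, hty0⟩
    have hD := (hA y0 hy0 hs0).2
    have hD' : Nat.card (Subgroup.centralizer ({y0} : Set G)) = m' := by omega
    have hf : (Nat.card (Subgroup.centralizer ({y0} : Set G))).factorization r
        = (Nat.card G).factorization r := by
      rw [hG, hD', Nat.factorization_mul hq0 (by positivity),
        Nat.factorization_mul (by positivity) hm'0, Nat.factorization_mul (by norm_num) (by omega)]
      simp only [Finsupp.coe_add, Pi.add_apply]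
      rw [Nat.factorization_eq_zero_of_not_dvd hrq, Nat.factorization_eq_zero_of_not_dvd h2,
        Nat.factorization_eq_zero_of_not_dvd hr2']
      ring
    obtain ⟨g, hg⟩ := Cfsg.Agent.Lib.Helper36.BSW.exists_conj_mem_of_hall _ r hf (z : G) hzk
    have := sr_inverts B hy0 B.ot hty0 _ hg
    exact hzU.2 (sReal_of_conj ⟨t, B.ot, this⟩)

theorem stE (B : Cfg K H t) (C : CharOut K q (-1) X) (h4 : 4 ≤ Nat.card K) (hA : StA K q X)
    (hB : StB K q) (hC : StC K t) : StE K q := by
  intro y hy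
  obtain ⟨m', hm, hq, hG⟩ := minus_arith C
  have hm'0 : 0 < m' := by omega
  set c := Nat.card (Subgroup.centralizer ({y} : Set G)) with hc
  have hcpos : 0 < c := Nat.card_pos
  have hcG : c ∣ Nat.card G := Subgroup.card_subgroup_dvd_card _
  have hcop : Nat.Coprime c (2 * (m' + 1) * m') := by
    apply Nat.coprime_of_dvd
    intro k hk hkc hk2
    have hkq := prime_dvd_q B C hA hC hy hk hkc
    have h1 : k ∣ Nat.gcd q (2 * (m' + 1) * m') := Nat.dvd_gcd hkq hk2
    rw [hq, (coprime_arith m')] at h1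
    exact hk.one_lt.ne' (Nat.dvd_one.mp h1)
  have hcq : c ∣ q := by
    rw [hG] at hcG
    exact hcop.dvd_of_dvd_mul_right hcG
  obtain ⟨e, he⟩ := hcq
  -- the two classes
  set S₁ : Set G := {w | IsConj y w} with hS₁
  set S₂ : Set G := {w | IsConj y⁻¹ w} with hS₂
  set U : Set G := {w | InU K w} with hU
  have hU' : U.ncard = q ^ 2 - 1 := by
    rw [← hB, hU, ← Nat.card_coe_set_eq]; rfl
  have h1 : S₁.ncard * c = Nat.card G := by
    rw [hS₁, ← Nat.card_coe_set_eq]
    have := Cfsg.Agent.Lib.Helper4.card_isConj_eq_index y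
    rw [Set.coe_ofPred, this, mul_comm]
    exact Subgroup.card_mul_index _
  have h2 : S₂.ncard * c = Nat.card G := by
    rw [hS₂, ← Nat.card_coe_set_eq]
    have := Cfsg.Agent.Lib.Helper4.card_isConj_eq_index y⁻¹
    rw [Set.coe_ofPred, this, centralizer_inv, mul_comm]
    exact Subgroup.card_mul_index _
  have hs1 : S₁ ⊆ U := by
    intro w hw
    obtain ⟨g, hg⟩ := isConj_iff.mp hw
    rw [← hg]; exact inU_conj hy g
  have hs2 : S₂ ⊆ U := by
    intro w hw
    obtain ⟨g, hg⟩ := isConj_iff.mp hw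
    rw [← hg]; exact inU_conj (inU_inv hy) g
  have hdisj : Disjoint S₁ S₂ := by
    rw [Set.disjoint_left]
    intro w hw1 hw2
    have : IsConj y y⁻¹ := IsConj.trans hw1 (IsConj.symm hw2)
    obtain ⟨g, hg⟩ := isConj_iff.mp this
    exact hy.2 (sr_of_real B hy.1 hg)
  have hun : (S₁ ∪ S₂).ncard = S₁.ncard + S₂.ncard :=
    Set.ncard_union_eq hdisj (Set.toFinite _) (Set.toFinite _)
  have hle : (S₁ ∪ S₂).ncard ≤ U.ncard :=
    Set.ncard_le_ncard (Set.union_subset hs1 hs2) (Set.toFinite _)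
  have hs1c : S₁.ncard = e * (2 * (m' + 1) * m') := by
    have : S₁.ncard * c = (e * (2 * (m' + 1) * m')) * c := by
      rw [h1, hG, he]; ring
    exact Nat.eq_of_mul_eq_mul_right hcpos this
  have hs2c : S₂.ncard = e * (2 * (m' + 1) * m') := by
    have : S₂.ncard * c = (e * (2 * (m' + 1) * m')) * c := by
      rw [h2, hG, he]; ring
    exact Nat.eq_of_mul_eq_mul_right hcpos this
  have hq2 : q ^ 2 - 1 = 4 * ((m' + 1) * m') := by
    rw [hq]
    have : (2 * m' + 1) ^ 2 = 4 * ((m' + 1) * m') + 1 := by ring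
    rw [this]; simp
  have hpos : 0 < (m' + 1) * m' := by positivity
  have he1 : e = 1 := by
    have he0 : e ≠ 0 := by
      rintro rfl
      rw [mul_zero] at he
      omega
    rw [hun, hs1c, hs2c, hU', hq2] at hle
    have : e * (4 * ((m' + 1) * m')) ≤ 1 * (4 * ((m' + 1) * m')) := by nlinarith
    have := Nat.le_of_mul_le_mul_right this (by positivity)
    omega
  refine ⟨by rw [he, he1, mul_one], inU_of_mem_centralizer B hy, ?_⟩
  have hEq : S₁ ∪ S₂ = U := by
    apply Set.eq_of_subset_of_ncard_le (Set.union_subset hs1 hs2) _ (Set.toFinite _)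
    rw [hun, hs1c, hs2c, hU', hq2, he1]
    apply le_of_eq; ring
  intro w hw
  have : w ∈ S₁ ∪ S₂ := by rw [hEq]; exact hw
  rcases this with h | h
  · exact Or.inl (IsConj.symm h)
  · exact Or.inr (IsConj.symm h)

end Cfsg.Agent.Lib.Helper19.BSW
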