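import Mathlib
import Cfsg.Agent.Lib.Helper19.BSWMe

/-!
# Brauer–Suzuki–Wall ladder, rung MF: the elements of `U` have prime order `p` and `q = p ^ f`.
-/

set_option autoImplicit false

namespace Cfsg.Agent.Lib.Helper19.BSW

open Cfsg.Agent.Lib.Helper73.BSW Cfsg.Agent.Lib.Helper91.BSW

universe u
variable {G : Type u} [Group G] [Fintype G] {K H : Subgroup G} {t : G} {q : ℕ} {X : G → ℤ}

theorem orderOf_conj_eq {G : Type*} [Group G] (g w : G) : orderOf (g * w * g⁻¹) = orderOf w := by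
  have := (MulAut.conj g).orderOf_eq w
  simpa using this

theorem stF (B : Cfg K H t) (C : CharOut K q (-1) X) (h4 : 4 ≤ Nat.card K) (hB : StB K q)
    (hE : StE K q) : ∃ p : ℕ, StF K q p := by
  obtain ⟨m', hm, hq, hG⟩ := minus_arith C
  have hne : Nonempty {y : G // InU K y} := by
    have : 0 < Nat.card {y : G // InU K y} := by
      rw [hB, hq]
      have h1 : 1 < (2 * m' + 1) ^ 2 := by
        have : 1 ≤ m' := by omega
        nlinarith
      omega
    exact (Nat.card_pos_iff.mp this).1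
  obtain ⟨⟨y0, hy0⟩⟩ := hne
  have hy01 : y0 ≠ 1 := by rintro rfl; exact hy0.1 conjIn_one
  have hord : ∀ w, InU K w → orderOf w = orderOf y0 := by
    intro w hw
    rcases (hE y0 hy0).2.2 w hw with h | h
    · obtain ⟨g, hg⟩ := isConj_iff.mp h
      rw [← hg, orderOf_conj_eq]
    · obtain ⟨g, hg⟩ := isConj_iff.mp h
      rw [← orderOf_inv y0, ← hg, orderOf_conj_eq]
  have hN1 : orderOf y0 ≠ 1 := by
    intro h; exact hy01 (orderOf_eq_one_iff.mp h)
  obtain ⟨p, hp, hpN⟩ := Nat.exists_prime_and_dvd hN1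
  haveI : Fact p.Prime := ⟨hp⟩
  have hzo : orderOf (y0 ^ (orderOf y0 / p)) = p :=
    orderOf_pow_orderOf_div (orderOf_pos y0).ne' hpN
  have hz1 : y0 ^ (orderOf y0 / p) ≠ 1 := by
    intro h
    rw [h, orderOf_one] at hzo
    exact hp.one_lt.ne hzo
  have hzC : y0 ^ (orderOf y0 / p) ∈ Subgroup.centralizer ({y0} : Set G) := by
    rw [mem_cent]
    exact ((Commute.refl y0).pow_left _).eq
  have hzU := (hE y0 hy0).2.1 _ hzC hz1
  have hNp : orderOf y0 = p := by rw [← hord _ hzU, hzo]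
  refine ⟨p, hp, ?_, fun y hy => by rw [hord y hy, hNp]⟩
  have hPG : IsPGroup p (Subgroup.centralizer ({y0} : Set G)) := by
    intro g
    by_cases hg : g = 1
    · exact ⟨0, by rw [hg]; simp⟩
    · refine ⟨1, ?_⟩
      have hg1 : (g : G) ≠ 1 := fun h => hg (Subtype.ext h)
      have hgU := (hE y0 hy0).2.1 _ g.2 hg1
      have hgo : orderOf (g : G) = p := by rw [hord _ hgU, hNp]
      apply Subtype.ext
      rw [pow_one, Subgroup.coe_pow, ← hgo, pow_orderOf_eq_one]; rfl
  obtain ⟨f, hf⟩ := IsPGroup.iff_card.mp hPG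
  exact ⟨f, by rw [← hf, (hE y0 hy0).1]⟩

end Cfsg.Agent.Lib.Helper19.BSW
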