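import Mathlib
import Cfsg.Agent.Lib.Helper19.BSWMf
import Cfsg.Agent.Lib.Helper36.BSWBurn

/-!
# Brauer–Suzuki–Wall ladder, rung MG: normalisers of non-trivial `p`-subgroups are `p`-closed.
-/

set_option autoImplicit false

namespace Cfsg.Agent.Lib.Helper19.BSW

open Cfsg.Agent.Lib.Helper73.BSW Cfsg.Agent.Lib.Helper91.BSW


universe u
variable {G : Type u} [Group G] [Fintype G] {K H : Subgroup G} {t : G} {q : ℕ} {X : G → ℤ}

/-- non-trivial `p`-elements lie in `U`. -/
theorem inU_of_pElement (C : CharOut K q (-1) X) (h4 : 4 ≤ Nat.card K)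
    (hA : StA K q X) {p : ℕ} (hF : StF K q p) {v : G} (hv1 : v ≠ 1) {k : ℕ}
    (hvk : v ^ (p ^ k) = 1) : InU K v := by
  obtain ⟨m', hm, hq, hG⟩ := minus_arith C
  obtain ⟨hp, ⟨f, hf⟩, -⟩ := hF
  have hpq : p ∣ q := by
    have hf0 : f ≠ 0 := by
      rintro rfl
      rw [pow_zero] at hf
      omega
    rw [hf]; exact dvd_pow_self p hf0
  have hpv : p ∣ orderOf v := by
    obtain ⟨j, -, hj⟩ := (Nat.dvd_prime_pow hp).mp (orderOf_dvd_of_pow_eq_one hvk)
    have hj0 : j ≠ 0 := by
      rintro rfl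
      rw [pow_zero] at hj
      exact hv1 (orderOf_eq_one_iff.mp hj)
    rw [hj]; exact dvd_pow_self p hj0
  have hno : ¬ p ∣ 2 * (m' + 1) * m' := by
    intro h
    have h1 : p ∣ Nat.gcd q (2 * (m' + 1) * m') := Nat.dvd_gcd hpq h
    rw [hq, (coprime_arith m')] at h1
    exact hp.one_lt.ne' (Nat.dvd_one.mp h1)
  have hcK : ¬ ConjIn K v := by
    rintro ⟨g, hg⟩
    apply hno
    have h1 : orderOf (g * v * g⁻¹) ∣ Nat.card K := by
      have := orderOf_dvd_natCard (⟨g * v * g⁻¹, hg⟩ : K)
      rwa [← Subgroup.orderOf_coe] at this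
    rw [orderOf_conj_eq, hm] at h1
    exact ((hpv.trans h1).mul_left 2).mul_right m'
  refine ⟨hcK, fun hs => hno ?_⟩
  have h1 := (hA v hcK hs).2
  have h2 : Nat.card (Subgroup.centralizer ({v} : Set G)) = m' := by omega
  have hvC : v ∈ Subgroup.centralizer ({v} : Set G) := by rw [mem_cent]
  have h3 : orderOf v ∣ m' := by
    have := orderOf_dvd_natCard (⟨v, hvC⟩ : Subgroup.centralizer ({v} : Set G))
    rwa [← Subgroup.orderOf_coe, h2] at this
  exact (hpv.trans h3).mul_left _

theorem no_invol_normalizer (B : Cfg K H t) {V : Subgroup G} (hV1 : V ≠ ⊥)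
    (hVU : ∀ v ∈ V, v ≠ 1 → InU K v) :
    ∀ u ∈ Subgroup.normalizer (V : Set G), orderOf u ≠ 2 := by
  intro u hu h2
  by_cases hfix : ∃ k ∈ V, u * k = k * u ∧ k ≠ 1
  · obtain ⟨k, hk, hc, hk1⟩ := hfix
    exact sr_no_invol B (hVU k hk hk1).1 u (mem_cent.2 hc) h2
  · push Not at hfix
    have hinv := fpf_inverts V (sq_of_order_two h2)
      (fun k hk => (Subgroup.mem_normalizer_iff.mp hu k).mp hk) hfix
    obtain ⟨⟨v, hv⟩, hv1⟩ := (Subgroup.ne_bot_iff_exists_ne_one.mp hV1)
    have hv1' : v ≠ 1 := fun h => hv1 (Subtype.ext h)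
    exact (hVU v hv hv1').2 ⟨u, h2, hinv v hv⟩

theorem stG (B : Cfg K H t) (C : CharOut K q (-1) X) (h4 : 4 ≤ Nat.card K) (hA : StA K q X)
    (hT : StT K) {p : ℕ} (hF : StF K q p) : StG G p := by
  intro V hV hV1
  have hp := hF.1
  haveI : Fact p.Prime := ⟨hp⟩
  have hVU : ∀ v ∈ V, v ≠ 1 → InU K v := by
    intro v hv hv1
    obtain ⟨k, hk⟩ := hV ⟨v, hv⟩
    have hk' : v ^ (p ^ k) = 1 := by simpa using congrArg Subtype.val hk
    exact inU_of_pElement C h4 hA hF hv1 hk'
  have hno := no_invol_normalizer B hV1 hVU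
  have hModd : Odd (Nat.card (Subgroup.normalizer (V : Set G))) := by
    by_contra hodd
    rw [Nat.not_odd_iff_even] at hodd
    obtain ⟨x, hx⟩ := exists_prime_orderOf_dvd_card' (G := Subgroup.normalizer (V : Set G)) 2
      hodd.two_dvd
    exact hno x x.2 (by rw [Subgroup.orderOf_coe, hx])
  have hoddel : ∀ g : Subgroup.normalizer (V : Set G), Odd (orderOf (g : G)) := by
    intro g
    rw [Subgroup.orderOf_coe]
    exact Odd.of_dvd_nat hModd (orderOf_dvd_natCard g)
  apply Cfsg.Agent.Lib.Helper36.BSW.pclosed_of_burnside p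
  intro r hr hrp R x hx
  haveI : Fact r.Prime := ⟨hr⟩
  rw [Subgroup.mem_centralizer_iff]
  by_cases hR : (R : Subgroup (Subgroup.normalizer (V : Set G))) = ⊥
  · intro a ha
    rw [SetLike.mem_coe, hR, Subgroup.mem_bot] at ha
    rw [ha]; simp
  · haveI : Nontrivial (R : Subgroup (Subgroup.normalizer (V : Set G))) :=
      (Subgroup.nontrivial_iff_ne_bot _).mpr hR
    haveI := IsPGroup.center_nontrivial R.isPGroup'
    obtain ⟨⟨z0, hz0⟩, hz01⟩ :=
      exists_ne (1 : Subgroup.center (R : Subgroup (Subgroup.normalizer (V : Set G))))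
    have hz01' : z0 ≠ 1 := fun h => hz01 (Subtype.ext h)
    set z : G := ((z0 : Subgroup.normalizer (V : Set G)) : G) with hz
    have hz1 : z ≠ 1 := by
      intro h
      apply hz01'
      apply Subtype.ext
      apply Subtype.ext
      exact h
    have hzodd : Odd (orderOf z) := hoddel _
    have hznU : ¬ InU K z := by
      intro hU
      have h1 := hF.2.2 z hU
      obtain ⟨k, hk⟩ := R.isPGroup' z0
      have hk' : z ^ (r ^ k) = 1 := by
        have := congrArg (fun w : (R : Subgroup (Subgroup.normalizer (V : Set G))) =>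
          ((w : Subgroup.normalizer (V : Set G)) : G)) hk
        simpa using this
      have h2 : p ∣ r ^ k := by rw [← h1]; exact orderOf_dvd_of_pow_eq_one hk'
      have h3 : p ∣ r := hp.dvd_of_dvd_pow h2
      exact hrp ((Nat.prime_dvd_prime_iff_eq hp hr).mp h3).symm
    obtain ⟨Bz, hzB, hBcomm, hBcent, hBnorm⟩ := hT z hz1 hzodd hznU
    have hCz : Subgroup.centralizer ({z} : Set G) = Bz := hBcent z hzB hz1 hzodd
    have hRB : ∀ a : Subgroup.normalizer (V : Set G), a ∈ R → (a : G) ∈ Bz := by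
      intro a ha
      rw [← hCz, mem_cent]
      have := Subgroup.mem_center_iff.mp hz0 ⟨a, ha⟩
      have := congrArg (fun w : (R : Subgroup (Subgroup.normalizer (V : Set G))) =>
          ((w : Subgroup.normalizer (V : Set G)) : G)) this
      simpa using this
    have hz'R : x * (z0 : Subgroup.normalizer (V : Set G)) * x⁻¹ ∈ R :=
      (Subgroup.mem_normalizer_iff.mp hx _).mp z0.2
    have hz'B : (x : G) * z * (x : G)⁻¹ ∈ Bz := by
      have := hRB _ hz'R
      simpa using this
    have hz'1 : (x : G) * z * (x : G)⁻¹ ≠ 1 := by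
      intro h
      apply hz1
      have : z = (x : G)⁻¹ * ((x : G) * z * (x : G)⁻¹) * (x : G) := by group
      rw [this, h]; group
    have hCz' : Subgroup.centralizer ({(x : G) * z * (x : G)⁻¹} : Set G) = Bz :=
      hBcent _ hz'B hz'1 (by rw [orderOf_conj_eq]; exact hzodd)
    have hxN : (x : G) ∈ Subgroup.normalizer (Bz : Set G) := by
      rw [Subgroup.mem_normalizer_iff]
      intro h
      conv_lhs => rw [← hCz]
      conv_rhs => rw [← hCz']
      rw [mem_cent, mem_cent]
      constructor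
      · intro e
        have : (x : G) * h * (x : G)⁻¹ * ((x : G) * z * (x : G)⁻¹)
            = (x : G) * (h * z) * (x : G)⁻¹ := by group
        rw [this, e]; group
      · intro e
        have e1 : h * z = (x : G)⁻¹ * ((x : G) * h * (x : G)⁻¹ * ((x : G) * z * (x : G)⁻¹))
            * (x : G) := by group
        rw [e1, e]; group
    have hxB : (x : G) ∈ Bz := hBnorm _ hxN (hoddel x)
    intro a ha
    apply Subtype.ext
    exact hBcomm _ (hRB a ha) _ hxB

end Cfsg.Agent.Lib.Helper19.BSW
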