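import Mathlib
import Cfsg.Prelude.Def_Characters
import Cfsg.Prelude.Def_CharExt
import Cfsg.Agent.Lib.Helper19.LinChar
import Cfsg.Agent.S0153

set_option autoImplicit false

namespace Cfsg.Agent.Lib.Helper19

open Cfsg

section
variable {G : Type*} [Group G]

theorem det_eq_of_equiv {V W : Type*} [AddCommGroup V] [Module ℂ V] [AddCommGroup W] [Module ℂ W]
    {ρ : Representation ℂ G V} {σ : Representation ℂ G W} (φ : ρ.Equiv σ) (g : G) :
    LinearMap.det (σ g) = LinearMap.det (ρ g) := by
  rw [← φ.conj_apply_self g]
  exact LinearMap.det_conj (ρ g) φ.toLinearEquiv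

/-- `detChar` can be computed from any finite dimensional representation affording `χ`. -/
theorem detChar_eq [Finite G] {V : Type*} [AddCommGroup V] [Module ℂ V] [FiniteDimensional ℂ V]
    (ρ : Representation ℂ G V) : detChar ρ.character = fun g => LinearMap.det (ρ g) := by
  classical
  have h : IsCharacter G ρ.character := by
    refine ⟨Module.finrank ℂ V, ?_, ?_⟩
    · exact ((Module.finBasis ℂ V).equivFun.conjRingEquiv :
        Module.End ℂ V →* Module.End ℂ (Fin (Module.finrank ℂ V) → ℂ)).comp ρ
    · funext g
      exact LinearMap.trace_conj' (ρ g) (Module.finBasis ℂ V).equivFun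
  unfold detChar
  rw [dif_pos h]
  funext g
  have hspec := Classical.choose_spec (Classical.choose_spec h)
  obtain ⟨φ⟩ := Cfsg.Agent.S0153.result _ ρ hspec
  exact (det_eq_of_equiv φ g).symm

/-- the determinant homomorphism of a representation -/
noncomputable def detHom {V : Type*} [AddCommGroup V] [Module ℂ V] (ρ : Representation ℂ G V) :
    G →* ℂˣ := (LinearMap.det.comp ρ).toHomUnits

theorem detHom_apply {V : Type*} [AddCommGroup V] [Module ℂ V] (ρ : Representation ℂ G V) (g : G) :
    ((detHom ρ g : ℂˣ) : ℂ) = LinearMap.det (ρ g) := rfl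

theorem detChar_eq_homFun [Finite G] {V : Type*} [AddCommGroup V] [Module ℂ V]
    [FiniteDimensional ℂ V] (ρ : Representation ℂ G V) :
    detChar ρ.character = homFun (detHom ρ) := by
  rw [detChar_eq ρ]
  rfl

theorem exists_detChar_hom [Finite G] {χ : G → ℂ} (h : IsCharacter G χ) :
    ∃ f : G →* ℂˣ, detChar χ = homFun f := by
  obtain ⟨n, ρ, rfl⟩ := h
  exact ⟨detHom ρ, detChar_eq_homFun ρ⟩

theorem detChar_restrict [Finite G] {χ : G → ℂ} (h : IsCharacter G χ) (N : Subgroup G) :
    detChar (fun n : N => χ n) = fun n : N => detChar χ n := by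
  obtain ⟨k, ρ, rfl⟩ := h
  let σ : Representation ℂ N (Fin k → ℂ) := MonoidHom.comp ρ N.subtype
  have h1 : (fun n : N => ρ.character n) = σ.character := rfl
  rw [h1, detChar_eq, detChar_eq]
  rfl

/-- twisting a representation by a homomorphism into the units -/
noncomputable def twist {V : Type*} [AddCommGroup V] [Module ℂ V] (b : G →* ℂˣ)
    (ρ : Representation ℂ G V) : Representation ℂ G V where
  toFun g := ((b g : ℂˣ) : ℂ) • ρ g
  map_one' := by simp
  map_mul' g h := by
    simp only [map_mul, Units.val_mul]
    rw [smul_mul_smul_comm]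

theorem twist_apply {V : Type*} [AddCommGroup V] [Module ℂ V] (b : G →* ℂˣ)
    (ρ : Representation ℂ G V) (g : G) : twist b ρ g = ((b g : ℂˣ) : ℂ) • ρ g := rfl

theorem twist_character {V : Type*} [AddCommGroup V] [Module ℂ V] (b : G →* ℂˣ)
    (ρ : Representation ℂ G V) : (twist b ρ).character = homFun b * ρ.character := by
  funext g
  simp [Representation.character, twist_apply, homFun]

theorem detChar_twist [Finite G] (b : G →* ℂˣ) {η : G → ℂ} (h : IsCharacter G η) (d : ℕ)
    (hd : η 1 = d) : detChar (homFun b * η) = homFun (b ^ d) * detChar η := by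
  obtain ⟨k, ρ, rfl⟩ := h
  have hk : k = d := by
    rw [Representation.char_one] at hd
    simpa using hd
  subst hk
  rw [← twist_character, detChar_eq, detChar_eq]
  funext g
  rw [twist_apply, LinearMap.det_smul]
  simp [homFun]

end

end Cfsg.Agent.Lib.Helper19
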