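import Mathlib

set_option autoImplicit false

namespace Cfsg.Agent.Lib.Helper19

open scoped Pointwise

/-- A surjection `π : Ĝ → G` whose kernel has order prime to `[G : N]` and which is split over the
subgroup `N` by a homomorphism `ι` with normal image, is split by a homomorphism extending `ι`. -/
theorem split_of_coprime {G Gh : Type*} [Group G] [Group Gh] (N : Subgroup G)
    (π : Gh →* G) (hπ : Function.Surjective π) (ι : N →* Gh) (hι : ∀ n : N, π (ι n) = n)
    (hnorm : ι.range.Normal) (hcop : Nat.Coprime (Nat.card π.ker) N.index) :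
    ∃ s : G →* Gh, (∀ g, π (s g) = g) ∧ ∀ n : N, s n = ι n := by
  classical
  let q : Gh →* Gh ⧸ ι.range := QuotientGroup.mk' ι.range
  have hq : Function.Surjective q := QuotientGroup.mk'_surjective _
  let Zb : Subgroup (Gh ⧸ ι.range) := π.ker.map q
  haveI hZn : Zb.Normal := Subgroup.Normal.map inferInstance q hq
  have hcard : Nat.card Zb ∣ Nat.card π.ker := Subgroup.card_map_dvd _ q
  have hidx : Zb.index ∣ N.index := by
    have h1 : (Zb.comap q).index = Zb.index := Subgroup.index_comap_of_surjective Zb hq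
    have h2 : (N.comap π).index = N.index := Subgroup.index_comap_of_surjective N hπ
    rw [← h1, ← h2]
    apply Subgroup.index_dvd_of_le
    intro x hx
    rw [Subgroup.mem_comap] at hx ⊢
    refine ⟨x * (ι ⟨π x, hx⟩)⁻¹, ?_, ?_⟩
    · show x * (ι ⟨π x, hx⟩)⁻¹ ∈ π.ker
      rw [MonoidHom.mem_ker, map_mul, map_inv, hι]
      simp
    · rw [map_mul, map_inv]
      have : q (ι ⟨π x, hx⟩) = 1 := by
        rw [QuotientGroup.mk'_apply, QuotientGroup.eq_one_iff]
        exact ⟨_, rfl⟩
      rw [this]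
      simp
  have hcop' : Nat.Coprime (Nat.card Zb) Zb.index :=
    Nat.Coprime.coprime_dvd_left hcard (Nat.Coprime.coprime_dvd_right hidx hcop)
  obtain ⟨Kb, hKb⟩ := Subgroup.exists_right_complement'_of_coprime hcop'
  let K : Subgroup Gh := Kb.comap q
  let θ : K →* G := π.comp K.subtype
  have hinj : Function.Injective θ := by
    rw [injective_iff_map_eq_one]
    intro x hx
    have hx1 : π (x : Gh) = 1 := hx
    have h1 : q (x : Gh) ∈ Zb := ⟨x, hx1, rfl⟩
    have h2 : q (x : Gh) ∈ Kb := x.2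
    have h3 : q (x : Gh) = 1 := by
      have := hKb.disjoint.le_bot (Subgroup.mem_inf.mpr ⟨h1, h2⟩)
      exact (Subgroup.mem_bot.mp this)
    rw [QuotientGroup.mk'_apply, QuotientGroup.eq_one_iff] at h3
    obtain ⟨n, hn⟩ := h3
    have h4 : (n : G) = 1 := by rw [← hι n, hn, hx1]
    have h5 : n = 1 := Subtype.ext h4
    apply Subtype.ext
    rw [← hn, h5, map_one]
    rfl
  have hsurj : Function.Surjective θ := by
    intro g
    obtain ⟨x, rfl⟩ := hπ g
    have hprod : q x ∈ (Zb : Set (Gh ⧸ ι.range)) * (Kb : Set (Gh ⧸ ι.range)) := by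
      rw [hKb.mul_eq]; trivial
    obtain ⟨zb, hzb, kb, hkb, hzk⟩ := Set.mem_mul.mp hprod
    obtain ⟨z, hz, rfl⟩ := hzb
    have hz1 : π z = 1 := hz
    refine ⟨⟨z⁻¹ * x, ?_⟩, ?_⟩
    · show q (z⁻¹ * x) ∈ Kb
      rw [map_mul, map_inv, ← hzk]
      simpa using hkb
    · show π (z⁻¹ * x) = π x
      rw [map_mul, map_inv, hz1]
      simp
  let e : K ≃* G := MulEquiv.ofBijective θ ⟨hinj, hsurj⟩
  refine ⟨K.subtype.comp e.symm.toMonoidHom, ?_, ?_⟩
  · intro g
    have : θ (e.symm g) = g := e.apply_symm_apply g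
    exact this
  · intro n
    have hmem : ι n ∈ K := by
      show q (ι n) ∈ Kb
      have : q (ι n) = 1 := by
        rw [QuotientGroup.mk'_apply, QuotientGroup.eq_one_iff]
        exact ⟨_, rfl⟩
      rw [this]
      exact Kb.one_mem
    have h1 : e ⟨ι n, hmem⟩ = (n : G) := hι n
    have h2 : e.symm (n : G) = ⟨ι n, hmem⟩ := by
      rw [← h1, MulEquiv.symm_apply_apply]
    show ((e.symm (n : G) : K) : Gh) = ι n
    rw [h2]

end Cfsg.Agent.Lib.Helper19
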