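import Mathlib
import Cfsg.Prelude.Def_Characters
import Cfsg.Agent.Lib.Helper19.SplitCoprime
import Cfsg.Agent.Lib.Helper82.ClassSum
import Cfsg.Agent.Lib.Helper20.CharComplete
import Cfsg.Agent.S0153

set_option autoImplicit false

namespace Cfsg.Agent.Lib.Helper19

open Cfsg

section
variable {G : Type*} [Group G] (N : Subgroup G) [hN : N.Normal] {d : ℕ}
  (ρ : Representation ℂ N (Fin d → ℂ)) (m : G →* ℂˣ)

/-- endomorphisms of the coordinate space -/
abbrev EE (d : ℕ) := Module.End ℂ (Fin d → ℂ)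

/-- determinant on units -/
noncomputable def detU (d : ℕ) : (EE d)ˣ →* ℂˣ := Units.map (LinearMap.det : EE d →* ℂ)

theorem detU_coe (P : (EE d)ˣ) : ((detU d P : ℂˣ) : ℂ) = LinearMap.det (P : EE d) := rfl

/-- scalars as units -/
noncomputable def scalU (d : ℕ) : ℂˣ →* (EE d)ˣ := Units.map (algebraMap ℂ (EE d)).toMonoidHom

theorem scalU_coe (c : ℂˣ) : ((scalU d c : (EE d)ˣ) : EE d) = (c : ℂ) • (1 : EE d) := by
  show algebraMap ℂ (EE d) c = _
  rw [Algebra.algebraMap_eq_smul_one]

theorem scalU_comm (c : ℂˣ) (P : (EE d)ˣ) : scalU d c * P = P * scalU d c := by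
  apply Units.ext
  rw [Units.val_mul, Units.val_mul, scalU_coe]
  simp

theorem detU_scalU (c : ℂˣ) : detU d (scalU d c) = c ^ d := by
  apply Units.ext
  rw [detU_coe, scalU_coe]
  have : ((c : ℂ) • (1 : EE d)) = (c : ℂ) • (LinearMap.id : EE d) := rfl
  rw [this, LinearMap.det_smul, LinearMap.det_id]
  simp

/-- The group of pairs `(g, P)` where `P` implements the conjugation action of `g` on `ρ` and has
determinant `m g`. -/
def hatG : Subgroup (G × (EE d)ˣ) where
  carrier := {x | (∀ n : N, x.2 * ρ.asGroupHom n * x.2⁻¹ = ρ.asGroupHom (MulAut.conjNormal x.1 n)) ∧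
    detU d x.2 = m x.1}
  one_mem' := by
    constructor
    · intro n
      simp
    · simp
  mul_mem' := by
    rintro x y ⟨hx1, hx2⟩ ⟨hy1, hy2⟩
    constructor
    · intro n
      calc (x * y).2 * ρ.asGroupHom n * ((x * y).2)⁻¹
          = x.2 * (y.2 * ρ.asGroupHom n * y.2⁻¹) * x.2⁻¹ := by
            simp [mul_assoc]
        _ = x.2 * ρ.asGroupHom (MulAut.conjNormal y.1 n) * x.2⁻¹ := by rw [hy1]
        _ = ρ.asGroupHom (MulAut.conjNormal x.1 (MulAut.conjNormal y.1 n)) := hx1 _
        _ = ρ.asGroupHom (MulAut.conjNormal (x * y).1 n) := by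
            simp [map_mul, MulAut.mul_apply]
    · simp [hx2, hy2]
  inv_mem' := by
    rintro x ⟨hx1, hx2⟩
    constructor
    · intro n
      have h := hx1 (MulAut.conjNormal x.1⁻¹ n)
      have e : MulAut.conjNormal x.1 (MulAut.conjNormal x.1⁻¹ n) = n := by
        rw [← MulAut.mul_apply, ← map_mul]
        simp
      rw [e] at h
      show x.2⁻¹ * ρ.asGroupHom n * (x.2⁻¹)⁻¹ = ρ.asGroupHom (MulAut.conjNormal x.1⁻¹ n)
      rw [← h]
      simp [mul_assoc]
    · simp [hx2]

theorem mem_hatG (x : G × (EE d)ˣ) : x ∈ hatG N ρ m ↔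
    (∀ n : N, x.2 * ρ.asGroupHom n * x.2⁻¹ = ρ.asGroupHom (MulAut.conjNormal x.1 n)) ∧
      detU d x.2 = m x.1 := Iff.rfl

/-- projection to `G` -/
def hatPi : hatG N ρ m →* G := (MonoidHom.fst G (EE d)ˣ).comp (hatG N ρ m).subtype

theorem hatPi_apply (x : hatG N ρ m) : hatPi N ρ m x = x.1.1 := rfl

/-- embedding of `N` -/
def hatIota (hm : ∀ n : N, detU d (ρ.asGroupHom n) = m n) : N →* hatG N ρ m :=
  MonoidHom.codRestrict (N.subtype.prod ρ.asGroupHom) (hatG N ρ m) (by
    intro n
    rw [mem_hatG]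
    constructor
    · intro k
      simp only [MonoidHom.prod_apply, Subgroup.coe_subtype]
      rw [← map_inv, ← map_mul, ← map_mul]
      congr 1
    · exact hm n)

theorem hatIota_coe (hm : ∀ n : N, detU d (ρ.asGroupHom n) = m n) (n : N) :
    (hatIota N ρ m hm n : G × (EE d)ˣ) = ((n : G), ρ.asGroupHom n) := rfl

theorem hatIota_range_normal (hm : ∀ n : N, detU d (ρ.asGroupHom n) = m n) :
    (hatIota N ρ m hm).range.Normal := by
  constructor
  rintro _ ⟨n, rfl⟩ x
  refine ⟨MulAut.conjNormal x.1.1 n, ?_⟩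
  apply Subtype.ext
  apply Prod.ext
  · rfl
  · exact (x.2.1 n).symm

theorem pos_of_irr (hρ : ρ.IsIrreducible) : 0 < d := by
  have := Cfsg.Agent.Lib.Helper20.finrank_ne_zero_of_irr ρ hρ
  rw [Module.finrank_fin_fun] at this
  exact Nat.pos_of_ne_zero this

theorem hatPi_surjective [Finite G] (hρ : ρ.IsIrreducible)
    (hinv : ∀ (g : G) (n : N), ρ.character (MulAut.conjNormal g n) = ρ.character n) :
    Function.Surjective (hatPi N ρ m) := by
  intro g
  have hd : 0 < d := pos_of_irr N ρ hρ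
  let σ : Representation ℂ N (Fin d → ℂ) :=
    MonoidHom.comp ρ (MulAut.conjNormal g : N ≃* N).toMonoidHom
  have hchar : ρ.character = σ.character := by
    funext n
    exact (hinv g n).symm
  obtain ⟨φ⟩ := Cfsg.Agent.S0153.result ρ σ hchar
  let P₀ : (EE d)ˣ := LinearMap.GeneralLinearGroup.ofLinearEquiv φ.toLinearEquiv
  have hP₀ : ∀ n : N, P₀ * ρ.asGroupHom n * P₀⁻¹ = ρ.asGroupHom (MulAut.conjNormal g n) := by
    intro n
    apply Units.ext
    have h1 := φ.conj_apply_self n
    have h2 : σ n = ρ (MulAut.conjNormal g n) := rfl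
    rw [Representation.asGroupHom_apply, ← h2, ← h1]
    rfl
  obtain ⟨c, hc⟩ := IsAlgClosed.exists_pow_nat_eq (((m g) * (detU d P₀)⁻¹ : ℂˣ) : ℂ) hd
  have hc0 : c ≠ 0 := by
    rintro rfl
    rw [zero_pow hd.ne'] at hc
    exact (Units.ne_zero _) hc.symm
  let cu : ℂˣ := Units.mk0 c hc0
  have hcu : cu ^ d = m g * (detU d P₀)⁻¹ := Units.ext hc
  refine ⟨⟨(g, scalU d cu * P₀), ?_, ?_⟩, rfl⟩
  · intro n
    show scalU d cu * P₀ * ρ.asGroupHom n * (scalU d cu * P₀)⁻¹ = _
    rw [← hP₀ n, mul_inv_rev]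
    calc scalU d cu * P₀ * ρ.asGroupHom n * (P₀⁻¹ * (scalU d cu)⁻¹)
        = scalU d cu * (P₀ * ρ.asGroupHom n * P₀⁻¹) * (scalU d cu)⁻¹ := by simp only [mul_assoc]
      _ = (P₀ * ρ.asGroupHom n * P₀⁻¹) * scalU d cu * (scalU d cu)⁻¹ := by rw [scalU_comm]
      _ = P₀ * ρ.asGroupHom n * P₀⁻¹ := by rw [mul_assoc, mul_inv_cancel, mul_one]
  · show detU d (scalU d cu * P₀) = m g
    rw [map_mul, detU_scalU, hcu]
    simp

theorem card_ker_dvd (hρ : ρ.IsIrreducible) : Nat.card (hatPi N ρ m).ker ∣ d := by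
  have hd : 0 < d := pos_of_irr N ρ hρ
  haveI : NeZero d := ⟨hd.ne'⟩
  let j : rootsOfUnity d ℂ →* hatG N ρ m :=
    MonoidHom.codRestrict
      ((MonoidHom.inr G (EE d)ˣ).comp ((scalU d).comp (rootsOfUnity d ℂ).subtype)) (hatG N ρ m) (by
        intro ζ
        rw [mem_hatG]
        constructor
        · intro n
          show scalU d ζ * ρ.asGroupHom n * (scalU d ζ)⁻¹ = ρ.asGroupHom (MulAut.conjNormal 1 n)
          rw [scalU_comm, mul_assoc, mul_inv_cancel, mul_one, map_one]
          rfl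
        · show detU d (scalU d ζ) = m 1
          rw [detU_scalU, map_one]
          exact (mem_rootsOfUnity _ _).mp ζ.2)
  have hle : (hatPi N ρ m).ker ≤ j.range := by
    intro x hx
    have hx1 : x.1.1 = 1 := hx
    have hcomm : ∀ n : N, (x.1.2 : EE d) ∘ₗ ρ n = ρ n ∘ₗ (x.1.2 : EE d) := by
      intro n
      have h1 := x.2.1 n
      rw [hx1, map_one] at h1
      have h2 : x.1.2 * ρ.asGroupHom n = ρ.asGroupHom n * x.1.2 := by
        have h3 : ρ.asGroupHom ((1 : MulAut N) n) = ρ.asGroupHom n := rfl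
        rw [h3] at h1
        exact mul_inv_eq_iff_eq_mul.mp h1
      have h4 := congrArg Units.val h2
      exact h4
    haveI := hρ
    obtain ⟨c, hc⟩ := Cfsg.Agent.Lib.Helper82.schur_scalar ρ (x.1.2 : EE d) hcomm
    have hdet : c ^ d = 1 := by
      have h1 := x.2.2
      rw [hx1, map_one] at h1
      have h2 := congrArg Units.val h1
      rw [detU_coe, hc, LinearMap.det_smul, LinearMap.det_id] at h2
      simpa using h2
    have hc0 : c ≠ 0 := by
      rintro rfl
      rw [zero_pow hd.ne'] at hdet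
      exact zero_ne_one hdet
    refine ⟨⟨Units.mk0 c hc0, (mem_rootsOfUnity _ _).mpr (Units.ext hdet)⟩, ?_⟩
    apply Subtype.ext
    apply Prod.ext
    · exact hx1.symm
    · apply Units.ext
      show ((scalU d (Units.mk0 c hc0) : (EE d)ˣ) : EE d) = _
      rw [scalU_coe, hc]
      rfl
  have h1 : Nat.card (hatPi N ρ m).ker ∣ Nat.card j.range := Subgroup.card_dvd_of_le hle
  have h2 : Nat.card j.range ∣ Nat.card (rootsOfUnity d ℂ) := Subgroup.card_range_dvd j
  rw [Complex.card_rootsOfUnity] at h2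
  exact h1.trans h2

/-- **Extension of an invariant irreducible representation** of a normal subgroup `N`, when the
degree is prime to the index and the determinant extends. -/
theorem exists_extension_rep [Finite G] (hρ : ρ.IsIrreducible)
    (hinv : ∀ (g : G) (n : N), ρ.character (MulAut.conjNormal g n) = ρ.character n)
    (hm : ∀ n : N, detU d (ρ.asGroupHom n) = m n) (hcop : Nat.Coprime N.index d) :
    ∃ R : Representation ℂ G (Fin d → ℂ), ∀ n : N, R n = ρ n := by
  obtain ⟨s, -, hs2⟩ := split_of_coprime N (hatPi N ρ m) (hatPi_surjective N ρ m hρ hinv)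
    (hatIota N ρ m hm) (fun n => rfl) (hatIota_range_normal N ρ m hm)
    (Nat.Coprime.coprime_dvd_left (card_ker_dvd N ρ m hρ) hcop.symm)
  refine ⟨(Units.coeHom (EE d)).comp ((MonoidHom.snd G _).comp ((hatG N ρ m).subtype.comp s)),
    fun n => ?_⟩
  show ((s n).1.2 : EE d) = ρ n
  rw [hs2 n]
  rfl

theorem irreducible_of_restrict {V : Type*} [AddCommGroup V] [Module ℂ V]
    (R : Representation ℂ G V) (σ : Representation ℂ N V) (h : ∀ n : N, R n = σ n)
    (hσ : σ.IsIrreducible) : R.IsIrreducible := by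
  let f : Subrepresentation R → Subrepresentation σ := fun W =>
    ⟨W.toSubmodule, fun n v hv => by
      have := W.apply_mem_toSubmodule (n : G) hv
      rwa [h n] at this⟩
  have hbt : (⊥ : Subrepresentation σ) ≠ ⊤ := bot_ne_top
  refine { exists_pair_ne := ⟨⊥, ⊤, ?_⟩, eq_bot_or_eq_top := ?_ }
  · intro hcon
    apply hbt
    apply Subrepresentation.toSubmodule_injective
    have h2 : (⊥ : Subrepresentation R).toSubmodule = (⊤ : Subrepresentation R).toSubmodule :=
      congrArg (fun W : Subrepresentation R => W.toSubmodule) hcon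
    exact h2
  · intro W
    rcases hσ.eq_bot_or_eq_top (f W) with h1 | h1
    · left
      apply Subrepresentation.toSubmodule_injective
      have h2 : (f W).toSubmodule = (⊥ : Subrepresentation σ).toSubmodule :=
        congrArg (fun W : Subrepresentation σ => W.toSubmodule) h1
      exact h2
    · right
      apply Subrepresentation.toSubmodule_injective
      have h2 : (f W).toSubmodule = (⊤ : Subrepresentation σ).toSubmodule :=
        congrArg (fun W : Subrepresentation σ => W.toSubmodule) h1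
      exact h2

end

end Cfsg.Agent.Lib.Helper19
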