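import Mathlib
import Cfsg.Prelude.Def_Characters
import Cfsg.Agent.Lib.Helper19.LinChar

set_option autoImplicit false

namespace Cfsg.Agent.Lib.Helper19

open Cfsg

section
variable {G : Type*} [Group G] {H : Subgroup G} {A : Type*} [CommGroup A]

open Subgroup Subgroup.leftTransversals MulAction in
theorem transfer_apply_of_conj_mem [H.FiniteIndex] (ϕ : H →* A) (n : G) (a : A)
    (hn : ∀ t : G, t⁻¹ * n * t ∈ H)
    (hϕ : ∀ (t : G) (h : t⁻¹ * n * t ∈ H), ϕ ⟨t⁻¹ * n * t, h⟩ = a) :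
    MonoidHom.transfer ϕ n = a ^ H.index := by
  classical
  let T : H.LeftTransversal := default
  rw [MonoidHom.transfer_def ϕ T n]
  unfold Subgroup.leftTransversals.diff
  letI := H.fintypeQuotientOfFiniteIndex
  have hfix : ∀ q : G ⧸ H, n⁻¹ • q = q := by
    intro q
    induction q using QuotientGroup.induction_on with
    | H t =>
      rw [MulAction.Quotient.smul_coe, smul_eq_mul]
      rw [QuotientGroup.eq]
      have := H.inv_mem (H.inv_mem (hn t))
      simpa [mul_assoc] using this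
  have hterm : ∀ q : G ⧸ H, ∀ h,
      ϕ ⟨((T.2.leftQuotientEquiv q : G))⁻¹ * ((n • T).2.leftQuotientEquiv q : G), h⟩ = a := by
    intro q h
    have e : ((n • T).2.leftQuotientEquiv q : G) = n * (T.2.leftQuotientEquiv q : G) := by
      rw [smul_apply_eq_smul_apply_inv_smul, hfix q, smul_eq_mul]
    have e2 : ((T.2.leftQuotientEquiv q : G))⁻¹ * ((n • T).2.leftQuotientEquiv q : G)
        = ((T.2.leftQuotientEquiv q : G))⁻¹ * n * (T.2.leftQuotientEquiv q : G) := by
      rw [e, mul_assoc]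
    have := hϕ (T.2.leftQuotientEquiv q : G) (hn _)
    rw [← this]
    congr 1
    exact Subtype.ext e2
  rw [Finset.prod_congr rfl (fun q _ => hterm q _), Finset.prod_const, Finset.card_univ]
  congr 1
  rw [Subgroup.index, Nat.card_eq_fintype_card]

theorem transfer_pow_eq_one [H.FiniteIndex] (ϕ : H →* A) (o : ℕ) (h : ∀ x, ϕ x ^ o = 1) (g : G) :
    MonoidHom.transfer ϕ g ^ o = 1 := by
  classical
  let T : H.LeftTransversal := default
  rw [MonoidHom.transfer_def ϕ T g]
  unfold Subgroup.leftTransversals.diff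
  letI := H.fintypeQuotientOfFiniteIndex
  rw [← Finset.prod_pow]
  exact Finset.prod_eq_one (fun q _ => h _)

theorem transfer_restrict (N : Subgroup G) [hN : N.Normal] (hNH : N ≤ H) [H.FiniteIndex]
    (ν : H →* A) (lam : N →* A) (hν : ∀ n : N, ν ⟨(n : G), hNH n.2⟩ = lam n)
    (hinv : ∀ (g : G) (n : N), lam ⟨g * n * g⁻¹, hN.conj_mem (n : G) n.2 g⟩ = lam n) (n : N) :
    MonoidHom.transfer ν (n : G) = lam n ^ H.index := by
  have hmem : ∀ t : G, t⁻¹ * (n : G) * t ∈ N := by
    intro t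
    have := hN.conj_mem (n : G) n.2 t⁻¹
    simpa using this
  apply transfer_apply_of_conj_mem ν (n : G) (lam n) (fun t => hNH (hmem t))
  intro t h
  have h1 := hν ⟨t⁻¹ * (n : G) * t, hmem t⟩
  rw [h1]
  have h2 := hinv t⁻¹ n
  rw [← h2]
  congr 1
  apply Subtype.ext
  simp

/-- The integers `k` such that `lam ^ k` extends to `G`. -/
def extPowers (N : Subgroup G) (lam : N →* A) : AddSubgroup ℤ where
  carrier := {k | ∃ μ : G →* A, ∀ n : N, μ (n : G) = lam n ^ k}
  zero_mem' := ⟨1, fun n => by simp⟩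
  add_mem' := by
    rintro a b ⟨μ, hμ⟩ ⟨μ', hμ'⟩
    exact ⟨μ * μ', fun n => by rw [MonoidHom.mul_apply, hμ, hμ', zpow_add]⟩
  neg_mem' := by
    rintro a ⟨μ, hμ⟩
    exact ⟨μ⁻¹, fun n => by rw [MonoidHom.inv_apply, hμ, zpow_neg]⟩

theorem exists_ext_of_coprime_indices [Finite G] (N : Subgroup G) [hN : N.Normal] (lam : N →* A)
    (hinv : ∀ (g : G) (n : N), lam ⟨g * n * g⁻¹, hN.conj_mem (n : G) n.2 g⟩ = lam n)
    (hsyl : ∀ p : ℕ, p.Prime → p ∣ orderOf lam → ∃ (H : Subgroup G) (hNH : N ≤ H) (ν : H →* A),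
      Nat.Coprime H.index p ∧ ∀ n : N, ν ⟨(n : G), hNH n.2⟩ = lam n) :
    ∃ μ : G →* A, ∀ n : N, μ (n : G) = lam n := by
  obtain ⟨d, hd⟩ := Int.subgroup_cyclic (extPowers N lam)
  have hdvd : ∀ k ∈ extPowers N lam, d ∣ k := by
    intro k hk
    rw [hd, AddSubgroup.mem_closure_singleton] at hk
    obtain ⟨j, hj⟩ := hk
    exact ⟨j, by rw [← hj]; simp [mul_comm]⟩
  have ho : ((orderOf lam : ℕ) : ℤ) ∈ extPowers N lam := by
    refine ⟨1, fun n => ?_⟩
    rw [zpow_natCast, ← MonoidHom.pow_apply, pow_orderOf_eq_one]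
    simp
  have hd1 : d.natAbs = 1 := by
    by_contra hne
    obtain ⟨p, hp, hpd⟩ := Nat.exists_prime_and_dvd hne
    have hpd' : (p : ℤ) ∣ d := Int.natCast_dvd.mpr hpd
    have hpo : p ∣ orderOf lam := by
      have := hpd'.trans (hdvd _ ho)
      exact_mod_cast this
    obtain ⟨H, hNH, ν, hcop, hν⟩ := hsyl p hp hpo
    have hm : ((H.index : ℕ) : ℤ) ∈ extPowers N lam := by
      refine ⟨MonoidHom.transfer ν, fun n => ?_⟩
      rw [transfer_restrict N hNH ν lam hν hinv n, zpow_natCast]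
    have hpm : p ∣ H.index := by
      have := hpd'.trans (hdvd _ hm)
      exact_mod_cast this
    have h3 : p ∣ Nat.gcd H.index p := Nat.dvd_gcd hpm dvd_rfl
    rw [hcop] at h3
    exact hp.one_lt.ne' (Nat.dvd_one.mp h3)
  have hdI : d ∈ extPowers N lam := by
    rw [hd]; exact AddSubgroup.subset_closure rfl
  have h1I : (1 : ℤ) ∈ extPowers N lam := by
    rcases Int.natAbs_eq d with h | h
    · rw [hd1] at h; simpa [h] using hdI
    · rw [hd1] at h
      have := (extPowers N lam).neg_mem hdI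
      rw [h] at this
      simpa using this
  obtain ⟨μ, hμ⟩ := h1I
  exact ⟨μ, fun n => by rw [hμ, zpow_one]⟩

end

end Cfsg.Agent.Lib.Helper19
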