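import Mathlib

set_option autoImplicit false

namespace Cfsg.Agent.Lib.Helper19

/-- Local form of Banaschewski's lemma: a multiplicatively closed additive group of integer valued
functions on a finite set which at every point takes some value prime to `p` contains a constant
function prime to `p`. -/
theorem local_banaschewski {X : Type*} [Finite X] (p : ℕ) (hp : p.Prime) (R : AddSubgroup (X → ℤ))
    (hmul : ∀ f ∈ R, ∀ g ∈ R, f * g ∈ R) (hpt : ∀ x : X, ∃ f ∈ R, ¬ (p : ℤ) ∣ f x) :
    ∃ m : ℤ, ¬ (p : ℤ) ∣ m ∧ (fun _ : X => m) ∈ R := by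
  classical
  haveI := Fintype.ofFinite X
  have hpZ : Prime (p : ℤ) := Nat.prime_iff_prime_int.mp hp
  -- step a
  have ha : ∀ x : X, ∃ e ∈ R, (p : ℤ) ∣ 1 - e x := by
    intro x
    obtain ⟨f, hf, hfx⟩ := hpt x
    have hcop : IsCoprime (f x) (p : ℤ) := by
      have := (hpZ.irreducible.coprime_iff_not_dvd).mpr hfx
      exact this.symm
    obtain ⟨b, c, hbc⟩ := hcop
    refine ⟨b • f, R.zsmul_mem hf b, ⟨c, ?_⟩⟩
    simp only [Pi.smul_apply, smul_eq_mul]
    linarith
  choose e heR he using ha
  -- step b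
  have key : ∀ T : Finset X, ∃ r ∈ R, ∏ x ∈ T, (1 - e x) = 1 - r := by
    intro T
    induction T using Finset.induction_on with
    | empty => exact ⟨0, R.zero_mem, by simp⟩
    | insert a T ha ih =>
      obtain ⟨r, hr, hprod⟩ := ih
      refine ⟨e a + r - e a * r, R.sub_mem (R.add_mem (heR a) hr) (hmul _ (heR a) _ hr), ?_⟩
      rw [Finset.prod_insert ha, hprod]
      ring
  obtain ⟨r, hr, hprod⟩ := key Finset.univ
  have hry : ∀ y : X, ¬ (p : ℤ) ∣ r y := by
    intro y hdvd
    have h1 : (p : ℤ) ∣ (∏ x ∈ (Finset.univ : Finset X), (1 - e x)) y := by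
      rw [Finset.prod_apply]
      exact Dvd.dvd.trans (he y) (Finset.dvd_prod_of_mem (fun x => (1 - e x) y) (Finset.mem_univ y))
    rw [hprod] at h1
    have h2 : (p : ℤ) ∣ 1 := by
      have := dvd_add h1 hdvd
      simpa using this
    exact hpZ.not_dvd_one h2
  -- step c
  have key2 : ∀ T : Finset X, ∃ r' ∈ R, ∃ k : ℤ, ¬ (p : ℤ) ∣ k ∧
      ∏ y ∈ T, (r - fun _ => r y) = r' + fun _ => k := by
    intro T
    induction T using Finset.induction_on with
    | empty => exact ⟨0, R.zero_mem, 1, hpZ.not_dvd_one, by simp; rfl⟩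
    | insert a T ha ih =>
      obtain ⟨r', hr', k, hk, hprod'⟩ := ih
      refine ⟨r * r' - (r a) • r' + k • r,
        R.add_mem (R.sub_mem (hmul _ hr _ hr') (R.zsmul_mem hr' _)) (R.zsmul_mem hr _),
        -(r a * k), ?_, ?_⟩
      · rw [dvd_neg]
        intro h
        rcases hpZ.dvd_or_dvd h with h | h
        · exact hry a h
        · exact hk h
      · rw [Finset.prod_insert ha, hprod']
        funext z
        simp only [Pi.mul_apply, Pi.sub_apply, Pi.add_apply, Pi.smul_apply, smul_eq_mul]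
        ring
  obtain ⟨r', hr', k, hk, hprod'⟩ := key2 Finset.univ
  have hzero : ∏ y ∈ (Finset.univ : Finset X), (r - fun _ => r y) = 0 := by
    funext z
    rw [Finset.prod_apply]
    apply Finset.prod_eq_zero (Finset.mem_univ z)
    simp
  rw [hzero] at hprod'
  refine ⟨k, hk, ?_⟩
  have : (fun _ : X => k) = -r' := by
    have := eq_neg_of_add_eq_zero_right hprod'.symm
    exact this
  rw [this]
  exact R.neg_mem hr'

end Cfsg.Agent.Lib.Helper19
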