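import Mathlib
import Cfsg.Prelude.Def_Characters
import Cfsg.Agent.Lib.Helper19.CharMisc
import Cfsg.Agent.Lib.Helper82.CharKer

set_option autoImplicit false

namespace Cfsg.Agent.Lib.Helper19

open Cfsg Cfsg.Agent.Lib.Helper20
open scoped ComplexConjugate

section
variable {G : Type*} [Group G]

/-- The vectors fixed by a normal subgroup form a subrepresentation. -/
def fixedSubrep {V : Type*} [AddCommGroup V] [Module ℂ V] (ρ : Representation ℂ G V)
    (N : Subgroup G) [hN : N.Normal] : Subrepresentation ρ where
  toSubmodule :=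
    { carrier := {v | ∀ n ∈ N, ρ n v = v}
      add_mem' := by
        intro a b ha hb n hn
        rw [map_add, ha n hn, hb n hn]
      zero_mem' := by intro n _; simp
      smul_mem' := by
        intro c v hv n hn
        rw [map_smul, hv n hn] }
  apply_mem_toSubmodule := by
    intro g v hv n hn
    have h1 : g⁻¹ * n * g ∈ N := by
      have := hN.conj_mem n hn g⁻¹
      simpa using this
    have h2 := hv _ h1
    have h3 : n * g = g * (g⁻¹ * n * g) := by group
    calc ρ n (ρ g v) = ρ (n * g) v := by rw [map_mul]; rfl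
      _ = ρ (g * (g⁻¹ * n * g)) v := by rw [← h3]
      _ = ρ g (ρ (g⁻¹ * n * g) v) := by rw [map_mul]; rfl
      _ = ρ g v := by rw [h2]

theorem mem_fixedSubrep {V : Type*} [AddCommGroup V] [Module ℂ V] (ρ : Representation ℂ G V)
    (N : Subgroup G) [N.Normal] (v : V) :
    v ∈ (fixedSubrep ρ N).toSubmodule ↔ ∀ n ∈ N, ρ n v = v := Iff.rfl

/-- For an irreducible character `β` and a normal subgroup `N`: either `N` is in the kernel, or
the sums of `β` over all cosets of `N` vanish. -/
theorem irr_ker_or_sum_zero (N : Subgroup G) [hN : N.Normal] [Fintype N] {β : G → ℂ}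
    (hβ : IsIrrCharacter G β) :
    (∀ n ∈ N, β n = β 1) ∨ (∀ g : G, ∑ n : N, β ((n : G) * g) = 0) := by
  obtain ⟨k, ρ, hρ, rfl⟩ := hβ
  rcases eq_bot_or_eq_top (fixedSubrep ρ N) with h | h
  · right
    intro g
    have hA : ∑ n : N, ρ (n : G) = 0 := by
      refine LinearMap.ext fun v => ?_
      have hv : (∑ n : N, ρ (n : G)) v ∈ (fixedSubrep ρ N).toSubmodule := by
        rw [mem_fixedSubrep]
        intro m hm
        rw [LinearMap.sum_apply, map_sum]
        refine Fintype.sum_equiv (Equiv.mulLeft (⟨m, hm⟩ : N)) _ _ ?_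
        intro n
        simp only [Equiv.coe_mulLeft, Subgroup.coe_mul, map_mul]
        rfl
      rw [h] at hv
      exact hv
    have : ∑ n : N, ρ.character ((n : G) * g)
        = LinearMap.trace ℂ _ ((∑ n : N, ρ (n : G)) * ρ g) := by
      rw [Finset.sum_mul, map_sum]
      apply Finset.sum_congr rfl
      intro n _
      rw [← map_mul]
      rfl
    rw [this, hA, zero_mul, map_zero]
  · left
    intro n hn
    have : ρ n = ρ 1 := by
      refine LinearMap.ext fun v => ?_
      have hv : v ∈ (fixedSubrep ρ N).toSubmodule := by rw [h]; trivial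
      rw [(mem_fixedSubrep ρ N v).mp hv n hn, map_one]
      rfl
    simp only [Representation.character, this]

theorem char_mul_of_ker [Finite G] {β : G → ℂ} (hβ : IsCharacter G β) {x : G} (hx : β x = β 1) (g : G) :
    β (x * g) = β g := by
  have h1 : β (x * g) = β (g * x) := by
    have := isClassFunction_of_isCharacter hβ (g * x) x
    rw [← this]
    congr 1
    group
  rw [h1]
  exact Cfsg.Agent.Lib.Helper82.isChar_mul_of_mem_ker hβ hx g

end

end Cfsg.Agent.Lib.Helper19
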